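import Cfsg.Agent.Lib.Lie.G2Orders.Borel
import Cfsg.Agent.Lib.Lie.G2CubicTorus
import Mathlib.FieldTheory.Finite.Extension
import Cfsg.Agent.Lib.Small.Hermitian

/-!
Elements of prescribed order in the group of type G2 inside the subgroup isomorphic to SL3 and in small words.
-/

set_option autoImplicit false
set_option maxRecDepth 100000
set_option linter.style.haveILetI false

namespace Cfsg.Agent.Lie.G2Orders

open Cfsg.Lie Matrix
open scoped MatrixGroups

variable {F : Type*} [Field F]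

theorem exists_mx_emb (A : SpecialLinearGroup (Fin 3) F) : ∃ g : GG F, mx g = G2Seven.emb A := by
  let T : Subgroup (SpecialLinearGroup (Fin 3) F) :=
    { carrier := {A | ∃ g : GG F, mx g = G2Seven.emb A}
      one_mem' := ⟨1, by rw [mx_one, G2Seven.emb_one]⟩
      mul_mem' := by
        rintro A B ⟨g, hg⟩ ⟨h, hh⟩
        exact ⟨g * h, by rw [mx_mul, hg, hh, G2Seven.emb_mul]⟩
      inv_mem' := by
        rintro A ⟨g, hg⟩
        refine ⟨g⁻¹, ?_⟩
        rw [mx, map_inv]
        apply Units.inv_eq_of_mul_eq_one_right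
        rw [show (psi g : Matrix (Fin 7) (Fin 7) F) = G2Seven.emb A from hg, ← G2Seven.emb_mul, mul_inv_cancel,
          G2Seven.emb_one] }
  have hT : T = ⊤ := by
    rw [eq_top_iff, ← Cfsg.Agent.Classical.sl_closure_transvections, Subgroup.closure_le]
    rintro _ ⟨i, j, h, c, rfl⟩
    refine ⟨xx (G2Seven.tRoot i j).1 (((G2Seven.tRoot i j).2 : F) * c), ?_⟩
    rw [mx, psi_xx]
    exact (G2Seven.emb_transvection h c).symm
  exact (hT ▸ Subgroup.mem_top A : A ∈ T)

/-- An element in the group over a matrix of SL3. -/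
noncomputable def sl3 (A : SpecialLinearGroup (Fin 3) F) : GG F := Classical.choose (exists_mx_emb A)

theorem mx_sl3 (A : SpecialLinearGroup (Fin 3) F) : mx (sl3 A) = G2Seven.emb A := Classical.choose_spec (exists_mx_emb A)

theorem exists_ne01' [Fintype F] (h3 : 3 ≤ Fintype.card F) : ∃ a : F, a ≠ 0 ∧ a ≠ 1 := by
  classical
  obtain ⟨a, -, ha⟩ := Finset.exists_mem_notMem_of_card_lt_card
    (show ({0, 1} : Finset F).card < (Finset.univ : Finset F).card by
      rw [Finset.card_univ]; exact lt_of_le_of_lt Finset.card_le_two (by omega))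
  simp only [Finset.mem_insert, Finset.mem_singleton, not_or] at ha
  exact ⟨a, ha⟩

theorem mx_inj (h : ∃ a : F, a ≠ 0 ∧ a ≠ 1) {x y : GG F} (e : mx x = mx y) : x = y :=
  psi_injective h (Units.ext e)

theorem sl3_mul (h : ∃ a : F, a ≠ 0 ∧ a ≠ 1) (A B : SpecialLinearGroup (Fin 3) F) : sl3 (A * B) = sl3 A * sl3 B :=
  mx_inj h (by rw [mx_mul, mx_sl3, mx_sl3, mx_sl3, G2Seven.emb_mul])

/-- The embedding of SL3. -/
noncomputable def sl3Hom (h : ∃ a : F, a ≠ 0 ∧ a ≠ 1) : SpecialLinearGroup (Fin 3) F →* GG F :=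
  MonoidHom.mk' sl3 (sl3_mul h)

theorem sl3Hom_injective (h : ∃ a : F, a ≠ 0 ∧ a ≠ 1) : Function.Injective (sl3Hom h) := by
  intro A B e
  have h1 : mx (sl3 A) = mx (sl3 B) := congrArg mx e
  rw [mx_sl3, mx_sl3] at h1
  have h2 := (Matrix.reindex G2Seven.blk G2Seven.blk).injective h1
  exact Subtype.ext (Matrix.fromBlocks_inj.1 h2).1

/-- SL2 inside SL3. -/
def iota2 : SpecialLinearGroup (Fin 2) F →* SpecialLinearGroup (Fin 3) F where
  toFun B := ⟨!![B.1 0 0, B.1 0 1, 0; B.1 1 0, B.1 1 1, 0; 0, 0, 1], by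
    have h := B.2
    rw [Matrix.det_fin_two] at h
    rw [Matrix.det_fin_three]
    simp
    linear_combination h⟩
  map_one' := Subtype.ext (by ext i j; fin_cases i <;> fin_cases j <;> simp)
  map_mul' B C := Subtype.ext (by
    show !![(B.1 * C.1) 0 0, (B.1 * C.1) 0 1, 0; (B.1 * C.1) 1 0, (B.1 * C.1) 1 1, 0; 0, 0, 1] =
      !![B.1 0 0, B.1 0 1, 0; B.1 1 0, B.1 1 1, 0; 0, 0, 1] * !![C.1 0 0, C.1 0 1, 0; C.1 1 0, C.1 1 1, 0; 0, 0, 1]
    ext i j; fin_cases i <;> fin_cases j <;>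
      simp [Matrix.mul_apply, Fin.sum_univ_two, Fin.sum_univ_three])

theorem coe_iota2 (B : SpecialLinearGroup (Fin 2) F) :
    (iota2 B : Matrix (Fin 3) (Fin 3) F) = !![B.1 0 0, B.1 0 1, 0; B.1 1 0, B.1 1 1, 0; 0, 0, 1] := rfl

theorem iota2_injective : Function.Injective (iota2 (F := F)) := by
  intro B C e
  have h := congrArg Subtype.val e
  refine Subtype.ext ?_
  ext i j
  rw [show (iota2 B).1 = _ from coe_iota2 B, show (iota2 C).1 = _ from coe_iota2 C] at h
  have h0 := congrFun (congrFun h (Fin.castSucc i)) (Fin.castSucc j)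
  fin_cases i <;> fin_cases j <;> simpa using h0

theorem commute_short (h : ∃ a : F, a ≠ 0 ∧ a ≠ 1) (B : SpecialLinearGroup (Fin 2) F) (t : F) :
    Commute (sl3Hom h (iota2 B)) (xx 8 t) := by
  suffices hle : (⊤ : Subgroup (SpecialLinearGroup (Fin 2) F)) ≤
      (Subgroup.centralizer ({xx 8 t} : Set (GG F))).comap ((sl3Hom h).comp iota2) by
    exact Subgroup.mem_centralizer_singleton_iff.1 (hle (Subgroup.mem_top B))
  rw [← Cfsg.Agent.Classical.sl_closure_transvections, Subgroup.closure_le]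
  rintro _ ⟨i, j, hij, c, rfl⟩
  refine Subgroup.mem_centralizer_singleton_iff.2 ?_
  show sl3 (iota2 (SpecialLinearGroup.transvection hij c)) * xx 8 t = xx 8 t * sl3 (iota2 (SpecialLinearGroup.transvection hij c))
  have key : ∀ (r : ℕ) (s : F), r < chevG2.nroots → r ≠ 8 → r ≠ chevG2.neg 8 → chevG2.commTerms 8 r = [] →
      Commute (xx r s : GG F) (xx 8 t) := by
    intro r s hr h1 h2 h3
    have hc := CommSys.x_comm (factsG2.tsys F).toCommSys 8 r (by decide) hr h1 h2 t s
    rw [ChevalleyDatum.commWord, h3, List.map_nil, List.map_nil, List.prod_nil, mul_one] at hc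
    exact Subtype.ext hc
  have hne : (Fin.castSucc i : Fin 3) ≠ Fin.castSucc j := fun e => hij (Fin.castSucc_injective _ e)
  have e : iota2 (SpecialLinearGroup.transvection hij c) = SpecialLinearGroup.transvection hne c := by
    refine Subtype.ext ?_
    rw [show (iota2 (SpecialLinearGroup.transvection hij c)).1 = _ from coe_iota2 _]
    show _ = ((SpecialLinearGroup.transvection hne c : SpecialLinearGroup (Fin 3) F) : Matrix (Fin 3) (Fin 3) F)
    rw [SpecialLinearGroup.transvection_coe, SpecialLinearGroup.transvection_coe]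
    ext a b
    fin_cases i <;> fin_cases j <;> first | exact absurd rfl hij | skip
    all_goals fin_cases a <;> fin_cases b <;>
      simp [Matrix.one_apply, Matrix.single_apply]
  have e2 : sl3 (SpecialLinearGroup.transvection hne c) =
      xx (G2Seven.tRoot (Fin.castSucc i) (Fin.castSucc j)).1 (((G2Seven.tRoot (Fin.castSucc i) (Fin.castSucc j)).2 : F) * c) := by
    refine mx_inj h ?_
    rw [mx_sl3, mx, psi_xx]
    exact G2Seven.emb_transvection hne c
  rw [e, e2]
  have hr : ∀ i j : Fin 2, i ≠ j → ((G2Seven.tRoot (Fin.castSucc i) (Fin.castSucc j)).1 < chevG2.nroots ∧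
      (G2Seven.tRoot (Fin.castSucc i) (Fin.castSucc j)).1 ≠ 8 ∧
      (G2Seven.tRoot (Fin.castSucc i) (Fin.castSucc j)).1 ≠ chevG2.neg 8 ∧
      chevG2.commTerms 8 (G2Seven.tRoot (Fin.castSucc i) (Fin.castSucc j)).1 = []) := by decide +kernel
  obtain ⟨a1, a2, a3, a4⟩ := hr i j hij
  exact key _ _ a1 a2 a3 a4

/-- An element of order p times the order of an element of SL2. -/
theorem exists_mul_char [Fintype F] (h3 : 3 ≤ Fintype.card F) {p : ℕ} [Fact p.Prime] [CharP F p]
    (B : SpecialLinearGroup (Fin 2) F) (hcop : Nat.Coprime (orderOf B) p) :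
    ∃ g : GG F, orderOf g = p * orderOf B := by
  have h := exists_ne01' h3
  have h1 : orderOf (sl3Hom h (iota2 B)) = orderOf B :=
    (orderOf_injective ((sl3Hom h).comp iota2) ((sl3Hom_injective h).comp iota2_injective) B)
  have h2 : orderOf (xx 8 (1 : F)) = p := by
    refine orderOf_eq_prime (by rw [xx_pow, CharP.cast_eq_zero, zero_mul, xx_zero]) fun e => ?_
    have h0 := congrFun (congrFun (congrArg mx e) 0) 2
    rw [mx_one, mx, psi_xx] at h0
    simp [m7, g2Rep, g2Ent, Tm.ev, matUnit_apply] at h0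
  refine ⟨sl3Hom h (iota2 B) * xx 8 1, ?_⟩
  rw [(commute_short h B 1).orderOf_mul_eq_mul_orderOf_of_coprime (by rw [h1, h2]; exact hcop), h1, h2, mul_comm]

theorem exists_sl2_split [Fintype F] {q : ℕ} (hq : Fintype.card F = q) :
    ∃ B : SpecialLinearGroup (Fin 2) F, orderOf B = q - 1 := by
  obtain ⟨l, hl⟩ := IsCyclic.exists_ofOrder_eq_natCard (α := Fˣ)
  rw [Nat.card_units, Nat.card_eq_fintype_card, hq] at hl
  let D : Fˣ →* SpecialLinearGroup (Fin 2) F :=
    { toFun := fun x => ⟨!![(x : F), 0; 0, ((x⁻¹ : Fˣ) : F)], by simp [Matrix.det_fin_two]⟩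
      map_one' := Subtype.ext (by ext i j; fin_cases i <;> fin_cases j <;> simp)
      map_mul' := fun x y => Subtype.ext (by
        show !![((x * y : Fˣ) : F), 0; 0, (((x * y)⁻¹ : Fˣ) : F)] =
          !![(x : F), 0; 0, ((x⁻¹ : Fˣ) : F)] * !![(y : F), 0; 0, ((y⁻¹ : Fˣ) : F)]
        ext i j; fin_cases i <;> fin_cases j <;>
          simp [Matrix.mul_apply, Fin.sum_univ_two, mul_comm]) }
  refine ⟨D l, ?_⟩
  rw [orderOf_injective D (fun x y e => Units.ext ?_), hl]
  have e' : (!![(x : F), 0; 0, ((x⁻¹ : Fˣ) : F)] : Matrix (Fin 2) (Fin 2) F) = !![(y : F), 0; 0, ((y⁻¹ : Fˣ) : F)] :=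
    congrArg Subtype.val e
  simpa using congrFun (congrFun e' 0) 0

theorem exists_quad [Fintype F] {q : ℕ} (hq : Fintype.card F = q) :
    (∃ B : SpecialLinearGroup (Fin 2) F, orderOf B = q + 1) ∧
      ∃ A : SpecialLinearGroup (Fin 3) F, orderOf A = q ^ 2 - 1 := by
  classical
  obtain ⟨p, hpc⟩ := CharP.exists F
  haveI := Fact.mk (CharP.char_is_prime F p)
  have hq1 : 2 ≤ q := hq ▸ Fintype.one_lt_card
  let K := FiniteField.Extension F p 2
  haveI : Fintype K := Fintype.ofFinite K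
  have hcK : Nat.card K = q ^ 2 := by rw [FiniteField.natCard_extension, Nat.card_eq_fintype_card, hq]
  have hfac : q ^ 2 - 1 = (q + 1) * (q - 1) := Cfsg.Agent.Small.Hermitian.sq_sub_one q
  obtain ⟨z, hz⟩ := IsCyclic.exists_ofOrder_eq_natCard (α := Kˣ)
  rw [Nat.card_units, hcK] at hz
  have hnorm : ∀ x : K, algebraMap F K (Algebra.norm F x) = x ^ (q + 1) := fun x => by
    rw [FiniteField.algebraMap_norm_eq_pow, hcK, Nat.card_eq_fintype_card, hq, hfac,
      Nat.mul_div_cancel _ (by omega : 0 < q - 1)]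
  obtain ⟨L, hL, hdet⟩ : ∃ L : K →ₐ[F] Matrix (Fin 2) (Fin 2) F,
      Function.Injective L ∧ ∀ x : K, (L x).det = Algebra.norm F x := by
    let bK := Module.finBasisOfFinrankEq F K (FiniteField.finrank_extension F p 2)
    exact ⟨Algebra.leftMulMatrix bK, Algebra.leftMulMatrix_injective bK,
      fun x => (Algebra.norm_eq_matrix_det bK x).symm⟩
  constructor
  · have hw : orderOf (z ^ (q - 1)) = q + 1 := by
      rw [orderOf_pow_of_dvd (by omega) (hz ▸ hfac ▸ dvd_mul_left _ _), hz, hfac, Nat.mul_div_cancel _ (by omega)]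
    have hd : (L ((z ^ (q - 1) : Kˣ) : K)).det = 1 := by
      rw [hdet]
      apply (algebraMap F K).injective
      rw [hnorm, map_one, ← Units.val_pow_eq_pow_val, ← hw, pow_orderOf_eq_one, Units.val_one]
    refine ⟨(⟨_, hd⟩ : SpecialLinearGroup (Fin 2) F), ?_⟩
    let S : SpecialLinearGroup (Fin 2) F →* Matrix (Fin 2) (Fin 2) F :=
      { toFun := fun X => (X : Matrix (Fin 2) (Fin 2) F), map_one' := rfl, map_mul' := fun _ _ => rfl }
    have h1 := orderOf_injective S Subtype.val_injective (⟨_, hd⟩ : SpecialLinearGroup (Fin 2) F)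
    have h2 : orderOf (L ((z ^ (q - 1) : Kˣ) : K)) = orderOf ((z ^ (q - 1) : Kˣ) : K) :=
      orderOf_injective L.toRingHom.toMonoidHom hL _
    rw [orderOf_units, hw] at h2
    rw [← h1]
    exact h2
  · let D : Kˣ →* SpecialLinearGroup (Fin 3) F :=
      { toFun := fun x => ⟨!![L x 0 0, L x 0 1, 0; L x 1 0, L x 1 1, 0; 0, 0, ((L (x : K)).det)⁻¹], by
          have h0 : (L (x : K)).det ≠ 0 := by rw [hdet]; exact Algebra.norm_ne_zero_iff.2 x.ne_zero
          rw [Matrix.det_fin_two] at h0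
          rw [Matrix.det_fin_three]
          simp [Matrix.det_fin_two]
          field_simp⟩
        map_one' := Subtype.ext (by
          simp only [Units.val_one, map_one, Matrix.det_one, inv_one]
          ext i j; fin_cases i <;> fin_cases j <;> simp)
        map_mul' := fun x y => Subtype.ext (by
          show !![L ((x * y : Kˣ) : K) 0 0, L ((x * y : Kˣ) : K) 0 1, 0; L ((x * y : Kˣ) : K) 1 0, L ((x * y : Kˣ) : K) 1 1, 0;
              0, 0, ((L ((x * y : Kˣ) : K)).det)⁻¹] =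
            !![L (x : K) 0 0, L (x : K) 0 1, 0; L (x : K) 1 0, L (x : K) 1 1, 0; 0, 0, ((L (x : K)).det)⁻¹] *
              !![L (y : K) 0 0, L (y : K) 0 1, 0; L (y : K) 1 0, L (y : K) 1 1, 0; 0, 0, ((L (y : K)).det)⁻¹]
          simp only [Units.val_mul, map_mul, Matrix.det_mul, _root_.mul_inv_rev]
          ext i j; fin_cases i <;> fin_cases j <;>
            simp [Matrix.mul_apply, Fin.sum_univ_two, Fin.sum_univ_three, mul_comm]) }
    refine ⟨D z, ?_⟩
    rw [orderOf_injective D (fun x y e => Units.ext (hL ?_)), hz]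
    ext i j
    have e' : (!![L (x : K) 0 0, L (x : K) 0 1, 0; L (x : K) 1 0, L (x : K) 1 1, 0; 0, 0, ((L (x : K)).det)⁻¹] :
          Matrix (Fin 3) (Fin 3) F) =
        !![L (y : K) 0 0, L (y : K) 0 1, 0; L (y : K) 1 0, L (y : K) 1 1, 0; 0, 0, ((L (y : K)).det)⁻¹] :=
      congrArg Subtype.val e
    have h0 := congrFun (congrFun e' (Fin.castSucc i)) (Fin.castSucc j)
    fin_cases i <;> fin_cases j <;> simpa using h0

/-- The four orders from SL3. -/
theorem exists_orders [Fintype F] {p a : ℕ} (hp : p.Prime) (ha : 1 ≤ a) (hF : Fintype.card F = p ^ a)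
    (h3 : 3 ≤ Fintype.card F) :
    (∃ g : GG F, orderOf g = p * (p ^ a - 1)) ∧ (∃ g : GG F, orderOf g = p * (p ^ a + 1)) ∧
      (∃ g : GG F, orderOf g = (p ^ a) ^ 2 - 1) ∧ ∃ g : GG F, orderOf g = (p ^ a) ^ 2 + p ^ a + 1 := by
  haveI := Fact.mk hp
  haveI : CharP F p := charP_of_card_eq_prime_pow hF
  obtain ⟨⟨B, hB⟩, A, hA⟩ := exists_quad hF
  obtain ⟨B', hB'⟩ := exists_sl2_split hF
  have hpq : p ∣ p ^ a := dvd_pow_self p (by omega)
  have hq : 2 ≤ p ^ a := hF ▸ Fintype.one_lt_card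
  have hcop : ∀ n, (p ∣ n → p ∣ 1) → Nat.Coprime n p := fun n hn =>
    Nat.coprime_comm.1 ((Nat.Prime.coprime_iff_not_dvd hp).2 fun h => hp.not_dvd_one (hn h))
  refine ⟨?_, ?_, ⟨sl3Hom (exists_ne01' h3) A, ?_⟩, ?_⟩
  · obtain ⟨g, hg⟩ := exists_mul_char h3 B' (p := p) (hB' ▸ hcop _ fun h => by
      have := Nat.dvd_sub hpq h
      rwa [show p ^ a - (p ^ a - 1) = 1 by omega] at this)
    exact ⟨g, by rw [hg, hB']⟩
  · obtain ⟨g, hg⟩ := exists_mul_char h3 B (p := p) (hB ▸ hcop _ fun h => (Nat.dvd_add_right hpq).1 h)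
    exact ⟨g, by rw [hg, hB]⟩
  · rw [orderOf_injective _ (sl3Hom_injective _), hA]
  · obtain ⟨H, hH, hcard, -⟩ := G2Seven.exists_cyclic (F := F) hF (hF ▸ h3)
    obtain ⟨g, hg⟩ := IsCyclic.exists_ofOrder_eq_natCard (α := H)
    exact ⟨g.1, by rw [Subgroup.orderOf_coe, hg, hcard]⟩

end Cfsg.Agent.Lie.G2Orders
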