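import Mathlib

/-!
Pairs of elements of an abelian group whose six derived values are permuted by the q-th power map.
-/

set_option autoImplicit false

namespace Cfsg.Agent.Lie.G2Orders

variable {A : Type*} [CommGroup A]

/-- The six values. -/
def M6 (X Y : A) : Multiset A := X ::ₘ Y ::ₘ (X * Y)⁻¹ ::ₘ X⁻¹ ::ₘ Y⁻¹ ::ₘ (X * Y) ::ₘ 0

theorem mem_M6 {X Y a : A} :
    a ∈ M6 X Y ↔ a = X ∨ a = Y ∨ a = (X * Y)⁻¹ ∨ a = X⁻¹ ∨ a = Y⁻¹ ∨ a = X * Y := by
  simp [M6]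

theorem M6_comm (X Y : A) : M6 Y X = M6 X Y := by
  simp only [M6, ← Multiset.singleton_add, mul_comm Y X]; abel

theorem M6_rot (X Y : A) : M6 Y (X * Y)⁻¹ = M6 X Y := by
  have h1 : (Y * (X * Y)⁻¹)⁻¹ = X := by simp [mul_comm X Y]
  have h2 : Y * (X * Y)⁻¹ = X⁻¹ := by simp [mul_comm X Y]
  simp only [M6, h1, h2, inv_inv, inv_inv, ← Multiset.singleton_add]
  abel

theorem pow_sub_one_of_eq {x : A} {n : ℕ} (hn : 1 ≤ n) (h : x ^ n = x) : x ^ (n - 1) = 1 := by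
  rw [← mul_left_inj x, ← pow_succ, Nat.sub_add_cancel hn, h, one_mul]

theorem pow_add_one_of_inv {x : A} {n : ℕ} (h : x ^ n = x⁻¹) : x ^ (n + 1) = 1 := by
  rw [pow_succ, h, inv_mul_cancel]

/-- The hypotheses. -/
structure Stable (q : ℕ) (X Y : A) : Prop where
  two_le : 2 ≤ q
  inj : ∀ x : A, x ^ q = 1 → x = 1
  even : Even q → ∀ x : A, x ^ 2 = 1 → x = 1
  stable : (M6 X Y).map (· ^ q) = M6 X Y

namespace Stable

variable {q : ℕ} {X Y : A}

theorem mem (h : Stable q X Y) {a : A} (ha : a ∈ M6 X Y) : a ^ q ∈ M6 X Y := by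
  rw [← h.stable]; exact Multiset.mem_map_of_mem _ ha

theorem symm (h : Stable q X Y) : Stable q Y X :=
  ⟨h.two_le, h.inj, h.even, by rw [M6_comm]; exact h.stable⟩

theorem rot (h : Stable q X Y) : Stable q Y (X * Y)⁻¹ :=
  ⟨h.two_le, h.inj, h.even, by rw [M6_rot]; exact h.stable⟩

theorem of_three (h : Stable q X Y) {x y : A} (hx : x ^ 3 = 1) (hy : y ^ 3 = 1) :
    ∃ N, (N = q - 1 ∨ N = q + 1) ∧ x ^ N = 1 ∧ y ^ N = 1 := by
  have hq := h.two_le
  have key : ∀ {z : A} {N : ℕ}, z ^ 3 = 1 → 3 ∣ N → z ^ N = 1 := by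
    intro z N hz hN; obtain ⟨k, rfl⟩ := hN; rw [pow_mul, hz, one_pow]
  rcases (show q % 3 = 0 ∨ q % 3 = 1 ∨ q % 3 = 2 by omega) with h3 | h3 | h3
  · exact ⟨q - 1, Or.inl rfl, by rw [h.inj x (key hx (by omega)), one_pow],
      by rw [h.inj y (key hy (by omega)), one_pow]⟩
  · exact ⟨q - 1, Or.inl rfl, key hx (by omega), key hy (by omega)⟩
  · exact ⟨q + 1, Or.inr rfl, key hx (by omega), key hy (by omega)⟩

theorem irr_one (h : Stable q X Y) (hX : X = 1) : ∃ N, (N = q - 1 ∨ N = q + 1) ∧ X ^ N = 1 ∧ Y ^ N = 1 := by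
  have hm := mem_M6.1 (h.mem (mem_M6.2 (Or.inr (Or.inl rfl)) : Y ∈ M6 X Y))
  subst hX
  simp only [one_mul, inv_one] at hm
  have hq := h.two_le
  rcases hm with e | e | e | e | e | e
  · exact ⟨q - 1, Or.inl rfl, one_pow _, by rw [h.inj Y e, one_pow]⟩
  · exact ⟨q - 1, Or.inl rfl, one_pow _, pow_sub_one_of_eq (by omega) e⟩
  · exact ⟨q + 1, Or.inr rfl, one_pow _, pow_add_one_of_inv e⟩
  · exact ⟨q - 1, Or.inl rfl, one_pow _, by rw [h.inj Y e, one_pow]⟩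
  · exact ⟨q + 1, Or.inr rfl, one_pow _, pow_add_one_of_inv e⟩
  · exact ⟨q - 1, Or.inl rfl, one_pow _, pow_sub_one_of_eq (by omega) e⟩

theorem irr_eq (h : Stable q X Y) (hXY : X = Y) : ∃ N, (N = q - 1 ∨ N = q + 1) ∧ X ^ N = 1 ∧ Y ^ N = 1 := by
  classical
  subst hXY
  have hq := h.two_le
  suffices hx : X ^ q = X ∨ X ^ q = X⁻¹ by
    rcases hx with e | e
    · exact ⟨q - 1, Or.inl rfl, pow_sub_one_of_eq (by omega) e, pow_sub_one_of_eq (by omega) e⟩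
    · exact ⟨q + 1, Or.inr rfl, pow_add_one_of_inv e, pow_add_one_of_inv e⟩
  by_contra hcon
  push Not at hcon
  obtain ⟨n1, n2⟩ := hcon
  have hc : 2 ≤ Multiset.count (X ^ q) (M6 X X) := by
    conv_rhs => rw [← h.stable]
    simp only [M6, Multiset.map_cons, Multiset.count_cons_self]
    omega
  simp only [M6, Multiset.count_cons, Multiset.count_zero, if_neg n1, if_neg n2, add_zero, zero_add] at hc
  have e1 : X ^ q = (X * X)⁻¹ := by by_contra h'; rw [if_neg h'] at hc; split_ifs at hc <;> omega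
  have e2 : X ^ q = X * X := by by_contra h'; rw [if_neg h'] at hc; split_ifs at hc <;> omega
  have h4 : (X * X) ^ 2 = 1 := by
    have h5 := e1.symm.trans e2
    rw [pow_two]; nth_rewrite 1 [← h5]; exact inv_mul_cancel _
  have h4' : X ^ 4 = 1 := by rw [← h4, ← pow_two, ← pow_mul]
  rcases Nat.even_or_odd q with he | ho
  · have h2 : X ^ 2 = 1 := by rw [pow_two]; exact h.even he _ h4
    have hX : X = 1 := h.even he _ h2
    exact n1 (by rw [hX, one_pow])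
  · obtain ⟨k, hk⟩ := ho
    rcases Nat.even_or_odd k with ⟨j, hj⟩ | ⟨j, hj⟩
    · refine n1 ?_
      rw [show q = 4 * j + 1 by omega, pow_succ, pow_mul, h4', one_pow, one_mul]
    · refine n2 (eq_inv_of_mul_eq_one_left ?_)
      rw [← pow_succ, show q + 1 = 4 * (j + 1) by omega, pow_mul, h4', one_pow]

/-- A value one gives an order dividing q - 1 or q + 1. -/
theorem irregular (h : Stable q X Y)
    (hi : X = 1 ∨ Y = 1 ∨ X * Y = 1 ∨ X = Y ∨ X * Y * Y = 1 ∨ X * X * Y = 1) :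
    ∃ N, (N = q - 1 ∨ N = q + 1) ∧ X ^ N = 1 ∧ Y ^ N = 1 := by
  have hrot : ∀ {N : ℕ}, Y ^ N = 1 → ((X * Y)⁻¹) ^ N = 1 → X ^ N = 1 := by
    intro N h1 h2
    rw [inv_pow, inv_eq_one, mul_pow, h1, mul_one] at h2
    exact h2
  rcases hi with e | e | e | e | e | e
  · exact h.irr_one e
  · obtain ⟨N, hN, a, b⟩ := h.symm.irr_one e
    exact ⟨N, hN, b, a⟩
  · obtain ⟨N, hN, a, b⟩ := h.rot.symm.irr_one (by rw [e, inv_one])
    exact ⟨N, hN, hrot b a, b⟩
  · exact h.irr_eq e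
  · obtain ⟨N, hN, a, b⟩ := h.rot.irr_eq (eq_inv_of_mul_eq_one_right e)
    exact ⟨N, hN, hrot a b, a⟩
  · obtain ⟨N, hN, a, b⟩ := h.rot.rot.irr_eq (by
      have e' : (Y * (X * Y)⁻¹)⁻¹ = X := by simp [mul_comm X Y]
      rw [e']
      exact inv_eq_of_mul_eq_one_right (by rw [← e]; simp [mul_comm, mul_left_comm]))
    rw [show (Y * (X * Y)⁻¹)⁻¹ = X by simp [mul_comm X Y]] at b
    refine ⟨N, hN, b, ?_⟩
    rw [inv_pow, inv_eq_one, mul_pow, b, one_mul] at a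
    exact a

theorem sq_case (h : Stable q X Y) (hX : X ^ 2 = 1) (hX1 : X ≠ 1) :
    X ^ (q ^ 2 - 1) = 1 ∧ Y ^ (q ^ 2 - 1) = 1 := by
  have hq := h.two_le
  have hodd : Odd q := Nat.not_even_iff_odd.1 fun he => hX1 (h.even he X hX)
  obtain ⟨k, hk⟩ := hodd
  have hXq : X ^ q = X := by rw [hk, pow_succ, pow_mul, hX, one_pow, one_mul]
  have hXinv : X⁻¹ = X := inv_eq_of_mul_eq_one_right (by rw [← pow_two, hX])
  have hsq : 1 ≤ q ^ 2 := Nat.one_le_pow _ _ (by omega)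
  refine ⟨pow_sub_one_of_eq hsq (by rw [pow_two, pow_mul, hXq, hXq]), pow_sub_one_of_eq hsq ?_⟩
  rw [pow_two, pow_mul]
  have hm := mem_M6.1 (h.mem (mem_M6.2 (Or.inr (Or.inl rfl)) : Y ∈ M6 X Y))
  have hYX : Y ^ q = X → Y = X := fun e => by
    have : (Y * X⁻¹) ^ q = 1 := by rw [mul_pow, inv_pow, e, hXq, mul_inv_cancel]
    exact mul_inv_eq_one.1 (h.inj _ this)
  rcases hm with e | e | e | e | e | e
  · rw [e, hXq]; exact (hYX e).symm
  · rw [e, e]
  · rw [e, inv_pow, mul_pow, hXq, e, mul_inv_rev, inv_inv, hXinv, mul_assoc]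
    rw [mul_comm Y X, ← mul_assoc, ← pow_two, hX, one_mul]
  · rw [hXinv] at e; rw [e, hXq]; exact (hYX e).symm
  · rw [e, inv_pow, e, inv_inv]
  · rw [e, mul_pow, hXq, e, ← mul_assoc, ← pow_two, hX, one_mul]

end Stable

/-- x is y or its inverse. -/
def PM (x y : A) : Prop := x = y ∨ x = y⁻¹

theorem sq_of_flip {P Q R : A} (hP : P * Q * R = 1) (h : P * Q⁻¹ * R = 1) : Q ^ 2 = 1 := by
  have e : Q ^ 2 = P * Q * R * (P * Q⁻¹ * R)⁻¹ := by
    apply Additive.ofMul.injective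
    simp only [ofMul_mul, ofMul_inv, ofMul_pow]
    abel
  rw [e, hP, h, inv_one, one_mul]

theorem signs {P Q R a b c : A} (hP : P * Q * R = 1) (h : a * b * c = 1) (p2 : P ^ 2 ≠ 1) (q2 : Q ^ 2 ≠ 1)
    (r2 : R ^ 2 ≠ 1) (ha : PM a P) (hb : PM b Q) (hc : PM c R) :
    (a = P ∧ b = Q) ∨ (a = P⁻¹ ∧ b = Q⁻¹) := by
  have hP' : P⁻¹ * Q⁻¹ * R⁻¹ = 1 := by rw [← mul_inv, ← mul_inv, hP, inv_one]
  have swap : ∀ {u v w : A}, u * v * w = 1 → v * u * w = 1 := fun {u v w} e => by rwa [mul_comm v u]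
  rcases ha with ea | ea <;> rcases hb with eb | eb <;> rw [ea, eb] at h
  · exact Or.inl ⟨ea, eb⟩
  · rcases hc with ec | ec <;> rw [ec] at h
    · exact absurd (sq_of_flip hP h) q2
    · exact absurd (inv_eq_one.1 ((inv_pow P 2).symm.trans (sq_of_flip (swap hP') (by rw [inv_inv]; exact swap h)))) p2
  · rcases hc with ec | ec <;> rw [ec] at h
    · exact absurd (sq_of_flip (swap hP) (swap h)) p2
    · exact absurd (inv_eq_one.1 ((inv_pow Q 2).symm.trans (sq_of_flip hP' (by rw [inv_inv]; exact h)))) q2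
  · exact Or.inr ⟨ea, eb⟩

/-- Every case. -/
theorem Stable.five {q : ℕ} {X Y : A} (h : Stable q X Y) :
    ∃ N, (N = q - 1 ∨ N = q + 1 ∨ N = q ^ 2 - 1 ∨ N = q ^ 2 + q + 1 ∨ N = q ^ 2 - q + 1) ∧
      X ^ N = 1 ∧ Y ^ N = 1 := by
  by_cases hi : X = 1 ∨ Y = 1 ∨ X * Y = 1 ∨ X = Y ∨ X * Y * Y = 1 ∨ X * X * Y = 1
  · obtain ⟨N, hN, h'⟩ := h.irregular hi
    exact ⟨N, hN.elim Or.inl (fun e => Or.inr (Or.inl e)), h'⟩
  push Not at hi
  obtain ⟨nX, nY, nZ, nXY, nYZ, nXZ⟩ := hi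
  have hq := h.two_le
  have hsq : 1 ≤ q ^ 2 := Nat.one_le_pow _ _ (by omega)
  set Z := (X * Y)⁻¹ with hZ
  have hP : X * Y * Z = 1 := mul_inv_cancel _
  by_cases sX : X ^ 2 = 1
  · exact ⟨_, Or.inr (Or.inr (Or.inl rfl)), h.sq_case sX nX⟩
  by_cases sY : Y ^ 2 = 1
  · obtain ⟨a, b⟩ := h.symm.sq_case sY nY
    exact ⟨_, Or.inr (Or.inr (Or.inl rfl)), b, a⟩
  by_cases sZ : Z ^ 2 = 1
  · obtain ⟨a, b⟩ := h.rot.symm.sq_case sZ (fun e => nZ (inv_eq_one.1 e))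
    refine ⟨_, Or.inr (Or.inr (Or.inl rfl)), ?_, b⟩
    rw [inv_pow, inv_eq_one, mul_pow, b, mul_one] at a
    exact a
  have hcls : ∀ a ∈ M6 X Y, PM (a ^ q) X ∨ PM (a ^ q) Y ∨ PM (a ^ q) Z := by
    intro a ha
    rcases mem_M6.1 (h.mem ha) with e | e | e | e | e | e
    · exact Or.inl (Or.inl e)
    · exact Or.inr (Or.inl (Or.inl e))
    · exact Or.inr (Or.inr (Or.inl e))
    · exact Or.inl (Or.inr e)
    · exact Or.inr (Or.inl (Or.inr e))
    · exact Or.inr (Or.inr (Or.inr (by rw [hZ, inv_inv]; exact e)))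
  have hX := hcls X (mem_M6.2 (Or.inl rfl))
  have hY := hcls Y (mem_M6.2 (Or.inr (Or.inl rfl)))
  have hZ' := hcls Z (mem_M6.2 (Or.inr (Or.inr (Or.inl rfl))))
  have habc : X ^ q * Y ^ q * Z ^ q = 1 := by rw [← mul_pow, ← mul_pow, hP, one_pow]
  have hinj : ∀ {u v : A}, u ^ q = v ^ q → u = v := fun {u v} e => by
    have := h.inj (u * v⁻¹) (by rw [mul_pow, inv_pow, e, mul_inv_cancel])
    exact mul_inv_eq_one.1 this
  have hne : ∀ {u v w : A}, u ≠ v → u * v ≠ 1 → PM (u ^ q) w → PM (v ^ q) w → False := by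
    intro u v w h1 h2 hu hv
    rcases hu with e | e <;> rcases hv with e' | e'
    · exact h1 (hinj (e.trans e'.symm))
    · exact h2 (h.inj _ (by rw [mul_pow, e, e', mul_inv_cancel]))
    · exact h2 (h.inj _ (by rw [mul_pow, e, e', inv_mul_cancel]))
    · exact h1 (hinj (e.trans e'.symm))
  have xz : X ≠ Z := fun e => nXZ (by rw [show X * X * Y = X * Y * X by rw [mul_right_comm]]; nth_rewrite 2 [e]; exact hP)
  have xz' : X * Z ≠ 1 := fun e => nY (by rw [← hP]; rw [mul_right_comm, e, one_mul])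
  have yz : Y ≠ Z := fun e => nYZ (by nth_rewrite 2 [e]; exact hP)
  have yz' : Y * Z ≠ 1 := fun e => nX (by rw [← hP, mul_assoc, e, mul_one])
  rcases hX with a | a | a <;> rcases hY with b | b | b <;> rcases hZ' with c | c | c
  all_goals first
    | exact absurd b (fun b => hne nXY nZ a b)
    | exact absurd c (fun c => hne xz xz' a c)
    | exact absurd c (fun c => hne yz yz' b c)
    | skip
  -- identity
  · rcases signs hP habc sX sY sZ a b c with ⟨e, e'⟩ | ⟨e, e'⟩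
    · exact ⟨_, Or.inl rfl, pow_sub_one_of_eq (by omega) e, pow_sub_one_of_eq (by omega) e'⟩
    · exact ⟨_, Or.inr (Or.inl rfl), pow_add_one_of_inv e, pow_add_one_of_inv e'⟩
  -- exchanges Y and Z
  · refine ⟨_, Or.inr (Or.inr (Or.inl rfl)), ?_⟩
    rcases signs (R := Y) (Q := Z) (by rw [mul_right_comm]; exact hP) habc sX sZ sY a b c with ⟨e, e'⟩ | ⟨e, e'⟩
    · refine ⟨pow_sub_one_of_eq hsq (by rw [pow_two, pow_mul, e, e]), pow_sub_one_of_eq hsq ?_⟩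
      rw [pow_two, pow_mul, e', hZ, inv_pow, mul_pow, e, e', hZ]; simp [mul_comm, mul_left_comm]
    · refine ⟨pow_sub_one_of_eq hsq (by rw [pow_two, pow_mul, e, inv_pow, e, inv_inv]), pow_sub_one_of_eq hsq ?_⟩
      rw [pow_two, pow_mul, e', hZ, inv_inv, mul_pow, e, e', hZ]; simp [mul_comm, mul_left_comm]
  -- exchanges X and Y
  · refine ⟨_, Or.inr (Or.inr (Or.inl rfl)), ?_⟩
    rcases signs (by rw [mul_comm Y X]; exact hP) habc sY sX sZ a b c with ⟨e, e'⟩ | ⟨e, e'⟩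
    · exact ⟨pow_sub_one_of_eq hsq (by rw [pow_two, pow_mul, e, e']), pow_sub_one_of_eq hsq (by rw [pow_two, pow_mul, e', e])⟩
    · exact ⟨pow_sub_one_of_eq hsq (by rw [pow_two, pow_mul, e, inv_pow, e', inv_inv]),
        pow_sub_one_of_eq hsq (by rw [pow_two, pow_mul, e', inv_pow, e, inv_inv])⟩
  -- X to Y to Z
  · rcases signs (P := Y) (Q := Z) (R := X) (by rw [← hP]; simp [mul_comm, mul_left_comm, mul_assoc]) habc sY sZ sX a b c with ⟨e, e'⟩ | ⟨e, e'⟩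
    · refine ⟨_, Or.inr (Or.inr (Or.inr (Or.inl rfl))), ?_, ?_⟩
      · rw [pow_succ, pow_add, pow_two, pow_mul, e, e', hZ]; simp [mul_comm, mul_left_comm]
      · rw [pow_succ, pow_add, pow_two, pow_mul, e', hZ, inv_pow, mul_pow, e, e', hZ]; simp [mul_comm, mul_left_comm]
    · refine ⟨_, Or.inr (Or.inr (Or.inr (Or.inr rfl))), ?_, ?_⟩
      all_goals rw [← mul_left_inj (_ ^ q), one_mul, ← pow_add,
        show q ^ 2 - q + 1 + q = q * q + 1 by
          have : q ≤ q ^ 2 := Nat.le_self_pow two_ne_zero q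
          rw [← pow_two]; omega, pow_succ, pow_mul]
      · rw [e, inv_pow, e', hZ]; simp [mul_comm, mul_left_comm]
      · rw [e', hZ, inv_inv, mul_pow, e, e', hZ]; simp [mul_comm, mul_left_comm]
  -- X to Z to Y
  · rcases signs (P := Z) (Q := X) (R := Y) (by rw [← hP]; simp [mul_comm, mul_left_comm, mul_assoc]) habc sZ sX sY a b c with ⟨e, e'⟩ | ⟨e, e'⟩
    · refine ⟨_, Or.inr (Or.inr (Or.inr (Or.inl rfl))), ?_, ?_⟩
      · rw [pow_succ, pow_add, pow_two, pow_mul, e, hZ, inv_pow, mul_pow, e, e', hZ]; simp [mul_comm, mul_left_comm]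
      · rw [pow_succ, pow_add, pow_two, pow_mul, e', e, hZ]; simp [mul_comm, mul_left_comm]
    · refine ⟨_, Or.inr (Or.inr (Or.inr (Or.inr rfl))), ?_, ?_⟩
      all_goals rw [← mul_left_inj (_ ^ q), one_mul, ← pow_add,
        show q ^ 2 - q + 1 + q = q * q + 1 by
          have : q ≤ q ^ 2 := Nat.le_self_pow two_ne_zero q
          rw [← pow_two]; omega, pow_succ, pow_mul]
      · rw [e, hZ, inv_inv, mul_pow, e, e', hZ]; simp [mul_comm, mul_left_comm]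
      · rw [e', inv_pow, e, hZ]; simp [mul_comm, mul_left_comm]
  -- exchanges X and Z
  · refine ⟨_, Or.inr (Or.inr (Or.inl rfl)), ?_⟩
    rcases signs (P := Z) (Q := Y) (R := X) (by rw [← hP]; simp [mul_comm, mul_left_comm, mul_assoc]) habc sZ sY sX a b c with ⟨e, e'⟩ | ⟨e, e'⟩
    · refine ⟨pow_sub_one_of_eq hsq ?_, pow_sub_one_of_eq hsq (by rw [pow_two, pow_mul, e', e'])⟩
      rw [pow_two, pow_mul, e, hZ, inv_pow, mul_pow, e, e', hZ]; simp [mul_comm, mul_left_comm]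
    · refine ⟨pow_sub_one_of_eq hsq ?_, pow_sub_one_of_eq hsq (by rw [pow_two, pow_mul, e', inv_pow, e', inv_inv])⟩
      rw [pow_two, pow_mul, e, hZ, inv_inv, mul_pow, e, e', hZ]; simp [mul_comm, mul_left_comm]

end Cfsg.Agent.Lie.G2Orders
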