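import Cfsg.Agent.Lib.Lie.G2Orders.Jordan
import Cfsg.Agent.Lib.Lie.G2Orders.Arith

/-!
Every element order of the group of type G2 over a field of q elements divides one of a short list of numbers.
-/

set_option autoImplicit false
set_option maxRecDepth 100000

namespace Cfsg.Agent.Lie.G2Orders

open Cfsg.Lie Matrix
open scoped MatrixGroups

variable {K : Type*} [Field K]

theorem exists_ne01 (K : Type*) [Field K] [Infinite K] : ∃ a : K, a ≠ 0 ∧ a ≠ 1 := by
  classical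
  obtain ⟨a, ha⟩ := Infinite.exists_notMem_finset ({0, 1} : Finset K)
  simp only [Finset.mem_insert, Finset.mem_singleton, not_or] at ha
  exact ⟨a, ha⟩

theorem mx_pow (g : GG K) (n : ℕ) : mx (g ^ n) = mx g ^ n := by rw [mx, map_pow, Units.val_pow_eq_pow_val]

theorem tor_pow (c : Fin 2 → Kˣ) (n : ℕ) : tor c ^ n = tor (c ^ n) := by
  refine Subtype.ext ?_
  show torus chevG2 K c ^ n = torus chevG2 K (c ^ n)
  exact (map_pow (torus chevG2 K) c n).symm

theorem tor_one : tor (1 : Fin 2 → Kˣ) = 1 := Subtype.ext (map_one (torus chevG2 K))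

theorem tor_pow_one (c : Fin 2 → Kˣ) {n : ℕ} (hx : dw c 1 ^ n = 1) (hy : dw c 2 ^ n = 1) : tor c ^ n = 1 := by
  have e0 : dw c 1 * dw c 2 = c 0 := by
    show c 1 * (c 0)⁻¹ * (c 0 * c 0 * (c 1)⁻¹) = c 0
    apply Additive.ofMul.injective
    simp only [ofMul_mul, ofMul_inv]
    abel
  have e1 : dw c 1 * c 0 = c 1 := inv_mul_cancel_right (c 1) (c 0)
  rw [tor_pow, ← tor_one (K := K)]
  congr 1
  have h0 : c 0 ^ n = 1 := by rw [← e0, mul_pow, hx, hy, one_mul]
  have h1 : c 1 ^ n = 1 := by rw [← e1, mul_pow, hx, h0, one_mul]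
  funext i
  fin_cases i
  · exact h0
  · exact h1

theorem stable_dw {F : Type*} [Field F] [Fintype F] (f : F →+* K) {p a : ℕ} [Fact p.Prime] [CharP K p]
    (ha : 1 ≤ a) (hF : Fintype.card F = p ^ a) (g : GG F) {y u : GG K} {c : Fin 2 → Kˣ} (hu : u ∈ UniTri K)
    (e : y * baseG f g * y⁻¹ = u * tor c) : Stable (p ^ a) (dw c 1) (dw c 2) := by
  classical
  have hp := (Fact.out : p.Prime)
  haveI : ExpChar K p := ExpChar.prime hp
  let s : K →+* K := iterateFrobenius K p a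
  have hs : ∀ x : K, s x = x ^ p ^ a := fun x => iterateFrobenius_def p a x
  have hinj : Function.Injective s := s.injective
  have h2 : 2 ≤ p ^ a := le_trans hp.two_le (Nat.le_self_pow (by omega) p)
  have hu' : ∀ {x : Kˣ}, x ^ (p ^ a) = 1 → x = 1 := fun {x} hx => by
    refine Units.ext (hinj ?_)
    rw [hs, hs, Units.val_one, one_pow, ← Units.val_pow_eq_pow_val, hx, Units.val_one]
  refine ⟨h2, fun x hx => hu' hx, fun he x hx => ?_, ?_⟩
  · have hp2 : p = 2 := ((Nat.prime_dvd_prime_iff_eq Nat.prime_two hp).1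
      (Nat.prime_two.dvd_of_dvd_pow (even_iff_two_dvd.1 he))).symm
    subst hp2
    have h : ((x : K) - 1) ^ 2 = 0 := by
      rw [sub_pow_char (p := 2) (x : K) 1, one_pow, ← Units.val_pow_eq_pow_val, hx, Units.val_one, sub_self]
    exact Units.ext (by rw [Units.val_one]; exact sub_eq_zero.1 (pow_eq_zero_iff two_ne_zero |>.1 h))
  have htri : Tri (mx (u * tor c)) := by
    rw [mx_mul, mx, mx, psi_tor]
    exact tri_mul hu.1.1 fun i j h => Matrix.diagonal_apply_ne _ h.ne'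
  have hdiag : ∀ i, mx (u * tor c) i i = (dw c i : K) := fun i => by
    rw [mx_mul, tri_diag_mul hu.1.1 (by rw [mx, psi_tor]; exact fun i j h => Matrix.diagonal_apply_ne _ h.ne'),
      hu.1.2, one_mul, mx, psi_tor, Matrix.diagonal_apply_eq]
  have hchar : (mx g).charpoly.map f = ∏ i : Fin 7, (Polynomial.X - Polynomial.C (dw c i : K)) := by
    rw [← Matrix.charpoly_map, show (mx g).map f = mx (baseG f g) from (psi_baseG f g).symm]
    have hc : (mx (u * tor c)).charpoly = (mx (baseG f g)).charpoly := by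
      rw [← e, mx, map_mul, map_mul, map_inv, Units.val_mul, Units.val_mul, Matrix.coe_units_inv, Matrix.charpoly_units_conj]
    rw [← hc, Matrix.charpoly_of_upperTriangular _ (fun i j h => htri i j h)]
    exact Finset.prod_congr rfl fun i _ => by rw [hdiag]
  have hfix : s.comp f = f := RingHom.ext fun x => by
    rw [RingHom.comp_apply, hs, ← map_pow, ← hF, FiniteField.pow_card]
  have hprod := congrArg (Polynomial.map s) hchar
  rw [Polynomial.map_map, hfix, hchar, Polynomial.map_prod] at hprod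
  simp only [Polynomial.map_sub, Polynomial.map_X, Polynomial.map_C] at hprod
  have hroots := congrArg Polynomial.roots hprod
  have hr : ∀ v : Fin 7 → K, (∏ i, (Polynomial.X - Polynomial.C (v i))).roots = Multiset.map v Finset.univ.val := by
    intro v
    have h := Polynomial.roots_multiset_prod_X_sub_C (Multiset.map v Finset.univ.val)
    rw [Multiset.map_map] at h
    exact h
  rw [hr, hr] at hroots
  have hd : Multiset.map (dw c) Finset.univ.val = 1 ::ₘ M6 (dw c 1) (dw c 2) := by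
    have e0 : dw c 0 = dw c 1 * dw c 2 := by
      show c 0 = c 1 * (c 0)⁻¹ * (c 0 * c 0 * (c 1)⁻¹)
      apply Additive.ofMul.injective
      simp only [ofMul_mul, ofMul_inv]
      abel
    have e4 : dw c 4 = (dw c 2)⁻¹ := by
      show c 1 * (c 0 * c 0)⁻¹ = (c 0 * c 0 * (c 1)⁻¹)⁻¹
      simp [mul_comm]
    have e5 : dw c 5 = (dw c 1)⁻¹ := by
      show c 0 * (c 1)⁻¹ = (c 1 * (c 0)⁻¹)⁻¹
      simp [mul_comm]
    have e6 : dw c 6 = (dw c 1 * dw c 2)⁻¹ := by
      rw [← e0]; rfl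
    have e3 : dw c 3 = 1 := rfl
    rw [Fin.univ_val_map]
    simp only [List.ofFn_succ, List.ofFn_zero, ← Multiset.cons_coe, Multiset.coe_nil]
    show dw c 0 ::ₘ dw c 1 ::ₘ dw c 2 ::ₘ dw c 3 ::ₘ dw c 4 ::ₘ dw c 5 ::ₘ dw c 6 ::ₘ 0 = _
    rw [e0, e3, e4, e5, e6]
    simp only [M6, ← Multiset.singleton_add]
    abel
  have e1 : Multiset.map (fun i => (dw c i : K)) Finset.univ.val =
      (1 ::ₘ M6 (dw c 1) (dw c 2)).map Units.val := by rw [← hd, Multiset.map_map]; rfl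
  have e2 : Multiset.map (fun i => s (dw c i : K)) Finset.univ.val =
      ((1 ::ₘ M6 (dw c 1) (dw c 2)).map (· ^ p ^ a)).map Units.val := by
    rw [← hd, Multiset.map_map, Multiset.map_map]
    exact Multiset.map_congr rfl fun i _ => by rw [hs]; simp
  rw [e1, e2] at hroots
  have h := Multiset.map_injective Units.val_injective hroots
  rw [Multiset.map_cons, one_pow, Multiset.cons_inj_right] at h
  exact h.symm

theorem xx_pow_char (r : ℕ) (t : K) (p : ℕ) [CharP K p] : xx r t ^ p = 1 := by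
  rw [xx_pow, CharP.cast_eq_zero, zero_mul, xx_zero]

theorem pair_pow {r s p : ℕ} [CharP K p] (hr : r < 12) (hs : s < 12) (h1 : s ≠ r) (h2 : s ≠ chevG2.neg r)
    (h3 : chevG2.commTerms r s = []) {u : GG K} (hu : u ∈ US7 [r, s]) : u ^ p = 1 := by
  have hc : ∀ t v, Commute (xx r t : GG K) (xx s v) := by
    intro t v
    have h := CommSys.x_comm (factsG2.tsys K).toCommSys r s hr hs h1 h2 t v
    rw [ChevalleyDatum.commWord, h3, List.map_nil, List.map_nil, List.prod_nil, mul_one] at h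
    exact Subtype.ext h.symm
  let S : Subgroup (GG K) :=
    { carrier := {u | ∃ t v, u = xx r t * xx s v}
      one_mem' := ⟨0, 0, by rw [xx_zero, xx_zero, one_mul]⟩
      mul_mem' := by
        rintro a b ⟨t, v, rfl⟩ ⟨t', v', rfl⟩
        refine ⟨t + t', v + v', ?_⟩
        rw [xx_add, xx_add, (hc t' v).mul_mul_mul_comm]
      inv_mem' := by
        rintro a ⟨t, v, rfl⟩
        exact ⟨-t, -v, by rw [xx_neg, xx_neg, _root_.mul_inv_rev, ((hc t v).inv_inv).eq]⟩ }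
  obtain ⟨t, v, rfl⟩ : u ∈ S := by
    refine US7_le (fun x hx t => ?_) hu
    simp only [List.mem_cons, List.not_mem_nil, or_false] at hx
    rcases hx with rfl | rfl
    · exact ⟨t, 0, by rw [xx_zero, mul_one]⟩
    · exact ⟨0, t, by rw [xx_zero, one_mul]⟩
  rw [(hc t v).mul_pow, xx_pow_char, xx_pow_char, one_mul]

theorem single_pow {r p : ℕ} [CharP K p] {u : GG K} (hu : u ∈ US7 [r]) : u ^ p = 1 := by
  let S : Subgroup (GG K) :=
    { carrier := Set.range (xx r)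
      one_mem' := ⟨0, xx_zero r⟩
      mul_mem' := by rintro a b ⟨t, rfl⟩ ⟨v, rfl⟩; exact ⟨t + v, xx_add r t v⟩
      inv_mem' := by rintro a ⟨t, rfl⟩; exact ⟨-t, xx_neg r t⟩ }
  obtain ⟨t, rfl⟩ : u ∈ S := by
    refine US7_le (fun x hx t => ?_) hu
    rw [List.mem_singleton] at hx
    subst hx
    exact ⟨t, rfl⟩
  exact xx_pow_char r t p

theorem mx_eq_one [Infinite K] {u : GG K} (h : mx u = 1) : u = 1 :=
  psi_injective (exists_ne01 K) (by rw [map_one]; exact Units.ext h)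

theorem pow_of_nil [Infinite K] {p : ℕ} [Fact p.Prime] [CharP K p] {u : GG K} {m k : ℕ}
    (h : (mx u - 1) ^ m = 0) (hm : m ≤ p ^ k) : u ^ p ^ k = 1 := by
  refine mx_eq_one ?_
  have h1 := pow_eq_zero_of_le hm h
  rw [sub_pow_char_pow_of_commute (p := p) (n := k) (Commute.one_right _), one_pow, sub_eq_zero] at h1
  rwa [mx_pow]

theorem uni_pow_seven {u : GG K} (hu : u ∈ UniTri K) : (mx u - 1) ^ 7 = 0 := by
  have key : ∀ (k : ℕ) (i j : Fin 7), j.val < i.val + k → ((mx u - 1) ^ k) i j = 0 := by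
    intro k
    induction k with
    | zero => intro i j h; rw [pow_zero]; exact Matrix.one_apply_ne (fun e => by subst e; omega)
    | succ k ih =>
      intro i j h
      rw [pow_succ, Matrix.mul_apply]
      refine Finset.sum_eq_zero fun l _ => ?_
      by_cases hl : l.val < i.val + k
      · rw [ih i l hl, zero_mul]
      · rw [Matrix.sub_apply]
        by_cases hlj : l = j
        · subst hlj; rw [hu.1.2, Matrix.one_apply_eq, sub_self, mul_zero]
        · have : j < l := by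
            have := Fin.val_ne_of_ne hlj
            omega
          rw [hu.1.1 l j this, Matrix.one_apply_ne hlj, sub_zero, mul_zero]
  ext i j
  exact key 7 i j (by omega)

/-- Exponents of the coordinates. -/
def expo (a b : Fin 3) : Fin 7 → ℕ :=
  ![a.val + b.val, a.val, b.val, 0, 3 - b.val, 3 - a.val, 6 - a.val - b.val]

theorem expo_chain : ∀ a b : Fin 3, ¬(a = 0 ∧ b = 0) → ∀ i j k l : Fin 7, i < j → j < k → k < l →
    ¬(expo a b i % 3 = expo a b j % 3 ∧ expo a b j % 3 = expo a b k % 3 ∧ expo a b k % 3 = expo a b l % 3) := by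
  decide +kernel

theorem three_nil {c : Fin 2 → Kˣ} (hX : dw c 1 ^ 3 = 1) (hY : dw c 2 ^ 3 = 1)
    (hne : ¬(dw c 1 = 1 ∧ dw c 2 = 1)) {u : GG K} (hu : u ∈ UniTri K) (hc : Commute u (tor c)) :
    (mx u - 1) ^ 3 = 0 := by
  classical
  obtain ⟨w, hw, hw1⟩ : ∃ w : Kˣ, w ^ 3 = 1 ∧ w ≠ 1 := by
    by_cases h : dw c 1 = 1
    · exact ⟨_, hY, fun e => hne ⟨h, e⟩⟩
    · exact ⟨_, hX, h⟩
  have hprim : IsPrimitiveRoot (w : K) 3 := by
    rw [IsPrimitiveRoot.coe_units_iff]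
    refine ⟨hw, fun l hl => ?_⟩
    have h3 := Nat.prime_three.eq_one_or_self_of_dvd (orderOf w) (orderOf_dvd_of_pow_eq_one hw)
    rcases h3 with h | h
    · exact absurd (orderOf_eq_one_iff.1 h) hw1
    · exact h ▸ orderOf_dvd_of_pow_eq_one hl
  obtain ⟨a, ha, ea⟩ := hprim.eq_pow_of_pow_eq_one (ξ := (dw c 1 : K))
    (by rw [← Units.val_pow_eq_pow_val, hX, Units.val_one])
  obtain ⟨b, hb, eb⟩ := hprim.eq_pow_of_pow_eq_one (ξ := (dw c 2 : K))
    (by rw [← Units.val_pow_eq_pow_val, hY, Units.val_one])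
  have eX : dw c 1 = w ^ a := Units.ext (by rw [Units.val_pow_eq_pow_val]; exact ea.symm)
  have eY : dw c 2 = w ^ b := Units.ext (by rw [Units.val_pow_eq_pow_val]; exact eb.symm)
  have hab : ¬((⟨a, ha⟩ : Fin 3) = 0 ∧ (⟨b, hb⟩ : Fin 3) = 0) := by
    rintro ⟨e1, e2⟩
    have e1' : a = 0 := congrArg Fin.val e1
    have e2' : b = 0 := congrArg Fin.val e2
    exact hne ⟨by rw [eX, e1', pow_zero], by rw [eY, e2', pow_zero]⟩
  have hinv : ∀ m ≤ 3, (w ^ m)⁻¹ = w ^ (3 - m) := fun m hm =>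
    inv_eq_of_mul_eq_one_right (by rw [← pow_add, Nat.add_sub_cancel' hm, hw])
  have e0 : dw c 0 = dw c 1 * dw c 2 := by
    show c 0 = c 1 * (c 0)⁻¹ * (c 0 * c 0 * (c 1)⁻¹)
    apply Additive.ofMul.injective
    simp only [ofMul_mul, ofMul_inv]
    abel
  have hd : ∀ i, dw c i = w ^ expo ⟨a, ha⟩ ⟨b, hb⟩ i := by
    intro i
    fin_cases i
    · show dw c 0 = w ^ (a + b); rw [e0, eX, eY, pow_add]
    · exact eX
    · exact eY
    · show dw c 3 = w ^ 0; rw [pow_zero]; rfl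
    · show dw c 4 = w ^ (3 - b)
      rw [← hinv b hb.le, ← eY]
      show c 1 * (c 0 * c 0)⁻¹ = (c 0 * c 0 * (c 1)⁻¹)⁻¹
      simp [mul_comm]
    · show dw c 5 = w ^ (3 - a)
      rw [← hinv a ha.le, ← eX]
      show c 0 * (c 1)⁻¹ = (c 1 * (c 0)⁻¹)⁻¹
      simp [mul_comm]
    · show dw c 6 = w ^ (6 - a - b)
      rw [show 6 - a - b = (3 - a) + (3 - b) by omega, pow_add, ← hinv a ha.le, ← hinv b hb.le, ← eX, ← eY,
        ← mul_inv, ← e0]
      rfl
  have horder : orderOf w = 3 := by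
    rcases Nat.prime_three.eq_one_or_self_of_dvd _ (orderOf_dvd_of_pow_eq_one hw) with h | h
    · exact absurd (orderOf_eq_one_iff.1 h) hw1
    · exact h
  have hN : ∀ i j, (mx u - 1) i j ≠ 0 → i < j ∧
      expo ⟨a, ha⟩ ⟨b, hb⟩ i % 3 = expo ⟨a, ha⟩ ⟨b, hb⟩ j % 3 := by
    intro i j hij
    rw [Matrix.sub_apply] at hij
    have hlt : i < j := by
      rcases lt_trichotomy i j with h | h | h
      · exact h
      · subst h; rw [hu.1.2, Matrix.one_apply_eq, sub_self] at hij; exact absurd rfl hij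
      · rw [hu.1.1 i j h, Matrix.one_apply_ne h.ne', sub_zero] at hij; exact absurd rfl hij
    rw [Matrix.one_apply_ne hlt.ne, sub_zero] at hij
    refine ⟨hlt, ?_⟩
    have h := congrArg (fun g : GG K => mx g i j) hc.eq
    simp only [mx_mul] at h
    rw [mx, mx, psi_tor, Matrix.mul_diagonal, Matrix.diagonal_mul] at h
    have h' : dw c j = dw c i := Units.ext (mul_left_cancel₀ hij (by rw [h, mul_comm]))
    rw [hd, hd] at h'
    have := pow_inj_mod.1 h'
    rw [horder] at this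
    exact this.symm
  ext i l
  rw [pow_succ, pow_two, Matrix.mul_apply, Matrix.zero_apply]
  refine Finset.sum_eq_zero fun k _ => ?_
  by_contra hk
  obtain ⟨h1, h2⟩ := mul_ne_zero_iff.1 hk
  rw [Matrix.mul_apply] at h1
  obtain ⟨j, -, hj⟩ := Finset.exists_ne_zero_of_sum_ne_zero h1
  obtain ⟨h3, h4⟩ := mul_ne_zero_iff.1 hj
  obtain ⟨l1, m1⟩ := hN i j h3
  obtain ⟨l2, m2⟩ := hN j k h4
  obtain ⟨l3, m3⟩ := hN k l h2
  exact expo_chain _ _ hab i j k l l1 l2 l3 ⟨m1, m2, m3⟩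

theorem kerL_val {c : Fin 2 → Kˣ} {r : ℕ} (hr : r ∈ kerL c) :
    (r = 6 ∧ dw c 1 = dw c 2) ∨ (r = 7 ∧ dw c 2 = 1) ∨ (r = 8 ∧ dw c 1 = 1) ∨ (r = 9 ∧ dw c 1 * dw c 2 = 1) ∨
      (r = 10 ∧ dw c 1 * dw c 2 * dw c 2 = 1) ∨ (r = 11 ∧ dw c 1 * dw c 1 * dw c 2 = 1) := by
  obtain ⟨⟨h1, h2⟩, h⟩ := mem_kerL.1 hr
  interval_cases r <;> simp [chi] at h <;> simp [h]
  exact mul_inv_eq_one.1 h

/-- Coordinates of the positive roots in the basis of the two characters. -/
def rvec : Fin 6 → ℤ × ℤ := ![(1, -1), (0, 1), (1, 0), (1, 1), (1, 2), (2, 1)]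

theorem rvec_det : ∀ i j : Fin 6, i ≠ j →
    ((rvec i).1 * (rvec j).2 - (rvec i).2 * (rvec j).1).natAbs ∈ [1, 2, 3] := by decide +kernel

theorem chi_rvec {c : Fin 2 → Kˣ} {r : ℕ} (hr : r ∈ kerL c) : ∃ i : Fin 6, r = i.val + 6 ∧
    dw c 1 ^ (rvec i).1 * dw c 2 ^ (rvec i).2 = 1 := by
  rcases kerL_val hr with ⟨rfl, h⟩ | ⟨rfl, h⟩ | ⟨rfl, h⟩ | ⟨rfl, h⟩ | ⟨rfl, h⟩ | ⟨rfl, h⟩
  · exact ⟨0, rfl, by simp [rvec, h]⟩
  · exact ⟨1, rfl, by simp [rvec, h]⟩
  · exact ⟨2, rfl, by simp [rvec, h]⟩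
  · exact ⟨3, rfl, by simpa [rvec] using h⟩
  · exact ⟨4, rfl, by rw [show rvec 4 = (1, 2) from rfl, _root_.zpow_one, zpow_ofNat, pow_two, ← mul_assoc]; exact h⟩
  · exact ⟨5, rfl, by rw [show rvec 5 = (2, 1) from rfl, _root_.zpow_one, zpow_ofNat, pow_two]; exact h⟩

theorem two_kernel {c : Fin 2 → Kˣ} {r s : ℕ} (hr : r ∈ kerL c) (hs : s ∈ kerL c) (hrs : r ≠ s) :
    (dw c 1 ^ 2 = 1 ∧ dw c 2 ^ 2 = 1) ∨ (dw c 1 ^ 3 = 1 ∧ dw c 2 ^ 3 = 1) := by
  obtain ⟨i, rfl, hi⟩ := chi_rvec hr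
  obtain ⟨j, rfl, hj⟩ := chi_rvec hs
  have hd := rvec_det i j (fun e => hrs (by rw [e]))
  generalize dw c 1 = X, dw c 2 = Y at *
  generalize hm : (rvec i).1 = a, (rvec i).2 = b, (rvec j).1 = u, (rvec j).2 = v at *
  have hX : X ^ (a * v - b * u) = 1 := by
    have e : X ^ (a * v - b * u) = (X ^ a * Y ^ b) ^ v * (X ^ u * Y ^ v) ^ (-b) := by
      rw [_root_.mul_zpow, _root_.mul_zpow, ← _root_.zpow_mul, ← _root_.zpow_mul, ← _root_.zpow_mul, ← _root_.zpow_mul,
        mul_mul_mul_comm, ← _root_.zpow_add, ← _root_.zpow_add, show b * v + v * -b = 0 by ring, zpow_zero, mul_one]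
      congr 1; ring
    rw [e, hi, hj, _root_.one_zpow, _root_.one_zpow, one_mul]
  have hY : Y ^ (a * v - b * u) = 1 := by
    have e : Y ^ (a * v - b * u) = (X ^ a * Y ^ b) ^ (-u) * (X ^ u * Y ^ v) ^ a := by
      rw [_root_.mul_zpow, _root_.mul_zpow, ← _root_.zpow_mul, ← _root_.zpow_mul, ← _root_.zpow_mul, ← _root_.zpow_mul,
        mul_mul_mul_comm, ← _root_.zpow_add, ← _root_.zpow_add, show a * -u + u * a = 0 by ring, zpow_zero, one_mul]
      congr 1; ring
    rw [e, hi, hj, _root_.one_zpow, _root_.one_zpow, one_mul]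
  have key : ∀ x : Kˣ, x ^ (a * v - b * u) = 1 → x ^ (a * v - b * u).natAbs = 1 := fun x hx => by
    rcases Int.natAbs_eq (a * v - b * u) with e | e <;> rw [e] at hx
    · rwa [zpow_natCast] at hx
    · rwa [_root_.zpow_neg, zpow_natCast, inv_eq_one] at hx
  replace hX := key X hX
  replace hY := key Y hY
  simp only [List.mem_cons, List.not_mem_nil, or_false] at hd
  rcases hd with e | e | e <;> rw [e] at hX hY
  · left; rw [pow_one] at hX hY; simp [hX, hY]
  · exact Or.inl ⟨hX, hY⟩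
  · exact Or.inr ⟨hX, hY⟩

/-- The bound. -/
theorem order_dvd {F : Type*} [Field F] [Fintype F] {p a : ℕ} (hp : p.Prime) (ha : 1 ≤ a)
    (hF : Fintype.card F = p ^ a) (g : GG F) :
    ∃ N, orderOf g ∣ N ∧ (N = p * (p ^ a - 1) ∨ N = p * (p ^ a + 1) ∨ N = (p ^ a) ^ 2 - 1 ∨
      N = (p ^ a) ^ 2 + p ^ a + 1 ∨ N = (p ^ a) ^ 2 - p ^ a + 1 ∨ (p = 2 ∧ (N = 8 ∨ N = 12)) ∨
      ((p = 3 ∨ p = 5) ∧ N = p ^ 2)) := by
  classical
  haveI := Fact.mk hp
  haveI : CharP F p := charP_of_card_eq_prime_pow hF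
  let K := AlgebraicClosure F
  let f : F →+* K := algebraMap F K
  haveI : CharP K p := charP_of_injective_algebraMap f.injective p
  obtain ⟨y, c, u, hu, e, hcomm, -, -⟩ := exists_jordan (baseG f g)
    (n := orderOf g) (by rw [← map_pow, pow_orderOf_eq_one, map_one])
  have huT : u ∈ UniTri K := US7_le_uniTri (fun r hr => (mem_kerL.1 hr).1.1) hu
  have hst := stable_dw f ha hF g huT e
  have hord : ∀ N, u ^ N = 1 → tor c ^ N = 1 → orderOf g ∣ N := by
    intro N h1 h2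
    refine orderOf_dvd_of_pow_eq_one (baseG_injective f ?_)
    rw [map_pow, map_one, ← conj_eq_one_iff (a := y), ← conj_pow, e, hcomm.mul_pow, h1, h2, one_mul]
  have hdvd : ∀ {x : GG K} {M N : ℕ}, x ^ M = 1 → M ∣ N → x ^ N = 1 := by
    intro x M N h1 h2; obtain ⟨k, rfl⟩ := h2; rw [pow_mul, h1, one_pow]
  have hq := hst.two_le
  have hsub : p ^ a - 1 ∣ (p ^ a) ^ 2 - 1 := by
    conv_rhs => rw [← one_pow 2, Nat.sq_sub_sq]
    exact dvd_mul_left _ _
  by_cases hi : dw c 1 = 1 ∨ dw c 2 = 1 ∨ dw c 1 * dw c 2 = 1 ∨ dw c 1 = dw c 2 ∨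
      dw c 1 * dw c 2 * dw c 2 = 1 ∨ dw c 1 * dw c 1 * dw c 2 = 1
  swap
  · have hker : kerL c = [] := List.eq_nil_iff_forall_not_mem.2 fun r hr => by
      rcases kerL_val hr with h | h | h | h | h | h <;> tauto
    have hu1 : u = 1 := by
      rw [hker] at hu
      exact Subgroup.mem_bot.1 (US7_le (H := ⊥) (by simp) hu)
    obtain ⟨N, hN, h1, h2⟩ := hst.five
    have h := hord N (by rw [hu1, one_pow]) (tor_pow_one c h1 h2)
    rcases hN with rfl | rfl | rfl | rfl | rfl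
    · exact ⟨_, dvd_mul_of_dvd_right h p, Or.inl rfl⟩
    · exact ⟨_, dvd_mul_of_dvd_right h p, Or.inr (Or.inl rfl)⟩
    · exact ⟨_, h, Or.inr (Or.inr (Or.inl rfl))⟩
    · exact ⟨_, h, Or.inr (Or.inr (Or.inr (Or.inl rfl)))⟩
    · exact ⟨_, h, Or.inr (Or.inr (Or.inr (Or.inr (Or.inl rfl))))⟩
  obtain ⟨M, hM, hM1, hM2⟩ := hst.irregular hi
  have hh := tor_pow_one c hM1 hM2
  have hfin : u ^ p = 1 → ∃ N, orderOf g ∣ N ∧ (N = p * (p ^ a - 1) ∨ N = p * (p ^ a + 1) ∨
      N = (p ^ a) ^ 2 - 1 ∨ N = (p ^ a) ^ 2 + p ^ a + 1 ∨ N = (p ^ a) ^ 2 - p ^ a + 1 ∨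
      (p = 2 ∧ (N = 8 ∨ N = 12)) ∨ ((p = 3 ∨ p = 5) ∧ N = p ^ 2)) := fun h => by
    refine ⟨p * M, hord _ (hdvd h (dvd_mul_right _ _)) (hdvd hh (dvd_mul_left _ _)), ?_⟩
    rcases hM with rfl | rfl
    · exact Or.inl rfl
    · exact Or.inr (Or.inl rfl)
  by_cases hone : ∀ r ∈ kerL c, ∀ s ∈ kerL c, r = s
  · refine hfin ?_
    rcases hk : kerL c with _ | ⟨r, l⟩
    · rw [hk] at hu
      rw [Subgroup.mem_bot.1 (US7_le (H := ⊥) (by simp) hu), one_pow]
    · refine single_pow (r := r) (US7_le (fun x hx t => xx_mem_US7 ?_ t) hu)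
      rw [List.mem_singleton]
      exact hone x hx r (by rw [hk]; exact List.mem_cons_self)
  push Not at hone
  obtain ⟨r, hr, s, hs, hrs⟩ := hone
  have h23 := two_kernel hr hs hrs
  have hpow : ∀ {N : ℕ}, dw c 1 ^ N = 1 → dw c 2 ^ N = 1 → tor c ^ N = 1 := fun h1 h2 => tor_pow_one c h1 h2
  by_cases hboth : dw c 1 = 1 ∧ dw c 2 = 1
  · have h1 : tor c = 1 := by simpa using hpow (N := 1) (by simp [hboth.1]) (by simp [hboth.2])
    have h7 := uni_pow_seven huT
    rcases (show p = 2 ∨ p = 3 ∨ p = 5 ∨ 7 ≤ p by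
      have := hp.two_le
      by_contra hcon
      have : p = 4 ∨ p = 6 := by omega
      rcases this with rfl | rfl <;> norm_num at hp) with rfl | rfl | rfl | h
    · exact ⟨8, hord 8 (pow_of_nil (p := 2) (k := 3) h7 (by norm_num)) (by rw [h1, one_pow]),
        Or.inr (Or.inr (Or.inr (Or.inr (Or.inr (Or.inl ⟨rfl, Or.inl rfl⟩)))))⟩
    · exact ⟨3 ^ 2, hord _ (pow_of_nil h7 (by norm_num)) (by rw [h1, one_pow]),
        Or.inr (Or.inr (Or.inr (Or.inr (Or.inr (Or.inr ⟨Or.inl rfl, rfl⟩)))))⟩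
    · exact ⟨5 ^ 2, hord _ (pow_of_nil h7 (by norm_num)) (by rw [h1, one_pow]),
        Or.inr (Or.inr (Or.inr (Or.inr (Or.inr (Or.inr ⟨Or.inr rfl, rfl⟩)))))⟩
    · refine hfin ?_
      have := pow_of_nil (p := p) (k := 1) h7 (by simpa using h)
      simpa using this
  rcases h23 with ⟨hX, hY⟩ | ⟨hX, hY⟩
  · have hval : ∀ x : Kˣ, x ^ 2 = 1 → x = 1 ∨ x = -1 := fun x hx =>
      (sq_eq_one_iff.1 (show (x : K) ^ 2 = 1 by rw [← Units.val_pow_eq_pow_val, hx, Units.val_one])).elim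
        (fun h => Or.inl (Units.ext h)) (fun h => Or.inr (Units.ext h))
    have hne : (-1 : Kˣ) ≠ 1 := by
      intro h
      rcases hval _ hX with a1 | a1 <;> rcases hval _ hY with b1 | b1 <;>
        exact hboth ⟨by simp [a1, h], by simp [b1, h]⟩
    refine hfin ?_
    have hsubs : ∀ r s, (∀ x ∈ kerL c, x = r ∨ x = s) → u ∈ US7 [r, s] := fun r s h =>
      US7_le (fun x hx t => xx_mem_US7 (by simpa using h x hx) t) hu
    rcases hval _ hX with a1 | a1 <;> rcases hval _ hY with b1 | b1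
    · exact absurd ⟨a1, b1⟩ hboth
    · refine pair_pow (r := 8) (s := 10) (by norm_num) (by norm_num) (by norm_num) (by decide +kernel) (by decide +kernel) (hsubs 8 10 fun x hx => ?_)
      rcases kerL_val hx with ⟨rfl, h⟩ | ⟨rfl, h⟩ | ⟨rfl, h⟩ | ⟨rfl, h⟩ | ⟨rfl, h⟩ | ⟨rfl, h⟩ <;>
        first
          | exact Or.inl rfl
          | exact Or.inr rfl
          | (simp [a1, b1, hne, hne.symm] at h)
    · refine pair_pow (r := 7) (s := 11) (by norm_num) (by norm_num) (by norm_num) (by decide +kernel) (by decide +kernel) (hsubs 7 11 fun x hx => ?_)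
      rcases kerL_val hx with ⟨rfl, h⟩ | ⟨rfl, h⟩ | ⟨rfl, h⟩ | ⟨rfl, h⟩ | ⟨rfl, h⟩ | ⟨rfl, h⟩ <;>
        first
          | exact Or.inl rfl
          | exact Or.inr rfl
          | (simp [a1, b1, hne, hne.symm] at h)
    · refine pair_pow (r := 6) (s := 9) (by norm_num) (by norm_num) (by norm_num) (by decide +kernel) (by decide +kernel) (hsubs 6 9 fun x hx => ?_)
      rcases kerL_val hx with ⟨rfl, h⟩ | ⟨rfl, h⟩ | ⟨rfl, h⟩ | ⟨rfl, h⟩ | ⟨rfl, h⟩ | ⟨rfl, h⟩ <;>
        first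
          | exact Or.inl rfl
          | exact Or.inr rfl
          | (simp [a1, b1, hne, hne.symm] at h)
  · have h3 := three_nil hX hY hboth huT hcomm
    rcases (show p = 2 ∨ p = 3 ∨ 5 ≤ p by
      have := hp.two_le
      by_contra hcon
      have : p = 4 := by omega
      subst this; norm_num at hp) with rfl | rfl | h
    · refine ⟨12, hord 12 (hdvd (pow_of_nil (p := 2) (k := 2) h3 (by norm_num)) (by norm_num))
        (hpow ?_ ?_), Or.inr (Or.inr (Or.inr (Or.inr (Or.inr (Or.inl ⟨rfl, Or.inr rfl⟩)))))⟩ <;> rw [show (12 : ℕ) = 3 * 4 by norm_num, pow_mul]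
      · rw [hX, one_pow]
      · rw [hY, one_pow]
    · have key : ∀ x : Kˣ, x ^ 3 = 1 → x = 1 := by
        intro x hx
        have h : ((x : K) - 1) ^ 3 = 0 := by
          rw [sub_pow_char (p := 3) (x : K) 1, one_pow, ← Units.val_pow_eq_pow_val, hx, Units.val_one, sub_self]
        exact Units.ext (by rw [Units.val_one]; exact sub_eq_zero.1 (pow_eq_zero_iff three_ne_zero |>.1 h))
      exact absurd ⟨key _ hX, key _ hY⟩ hboth
    · refine hfin ?_
      have := pow_of_nil (p := p) (k := 1) h3 (by rw [pow_one]; omega)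
      simpa using this

end Cfsg.Agent.Lie.G2Orders
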