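import Cfsg.Agent.Lib.Lie.G2Orders.Rep

/-!
A linear map of seven-dimensional space over an algebraically closed field which preserves the quadratic form
has a singular eigenvector.
-/

set_option autoImplicit false

namespace Cfsg.Agent.Lie.G2Orders

open Matrix

variable {K : Type*} [Field K]

/-- The polar form. -/
def polar7 (u v : Fin 7 → K) : K :=
  u 0 * v 6 + u 6 * v 0 - (u 1 * v 5 + u 5 * v 1) + (u 2 * v 4 + u 4 * v 2) - 2 * (u 3 * v 3)

theorem Q_add (u v : Fin 7 → K) : Q (u + v) = Q u + Q v + polar7 u v := by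
  simp only [Q, polar7, Pi.add_apply]; ring

theorem Q_smul (a : K) (v : Fin 7 → K) : Q (a • v) = a ^ 2 * Q v := by
  simp only [Q, Pi.smul_apply, smul_eq_mul]; ring

theorem polar7_smul_left (a : K) (u v : Fin 7 → K) : polar7 (a • u) v = a * polar7 u v := by
  simp only [polar7, Pi.smul_apply, smul_eq_mul]; ring

theorem polar7_smul_right (a : K) (u v : Fin 7 → K) : polar7 u (a • v) = a * polar7 u v := by
  simp only [polar7, Pi.smul_apply, smul_eq_mul]; ring

theorem polar7_sub_left (u u' v : Fin 7 → K) : polar7 (u - u') v = polar7 u v - polar7 u' v := by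
  simp only [polar7, Pi.sub_apply]; ring

theorem polar7_eq (u v : Fin 7 → K) : polar7 u v = Q (u + v) - Q u - Q v := by rw [Q_add]; ring

theorem finrank_ker_sq_le {V : Type*} [AddCommGroup V] [Module K V] [FiniteDimensional K V] (f : V →ₗ[K] V) :
    Module.finrank K (LinearMap.ker (f ∘ₗ f)) ≤
      Module.finrank K (LinearMap.ker f) + Module.finrank K (LinearMap.ker f) := by
  let g : LinearMap.ker (f ∘ₗ f) →ₗ[K] LinearMap.ker f :=
    (f.domRestrict (LinearMap.ker (f ∘ₗ f))).codRestrict (LinearMap.ker f) fun x => x.2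
  have h := LinearMap.finrank_range_add_finrank_ker g
  have h1 : Module.finrank K (LinearMap.range g) ≤ Module.finrank K (LinearMap.ker f) := Submodule.finrank_le _
  have h2 : Module.finrank K (LinearMap.ker g) ≤ Module.finrank K (LinearMap.ker f) := by
    let e : LinearMap.ker g →ₗ[K] LinearMap.ker f :=
      (((LinearMap.ker (f ∘ₗ f)).subtype).comp (LinearMap.ker g).subtype).codRestrict (LinearMap.ker f)
        fun x => congrArg Subtype.val (LinearMap.mem_ker.1 x.2)
    refine LinearMap.finrank_le_finrank_of_injective (f := e) fun a b hab => ?_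
    exact Subtype.ext (Subtype.ext (congrArg Subtype.val hab :))
  omega

theorem exists_singular_eigenvector [IsAlgClosed K] (L : (Fin 7 → K) →ₗ[K] (Fin 7 → K))
    (hL : ∀ v, Q (L v) = Q v) : ∃ (v : Fin 7 → K) (l : K), v ≠ 0 ∧ Q v = 0 ∧ L v = l • v := by
  classical
  by_contra hno
  push Not at hno
  have hQ : ∀ (v : Fin 7 → K) (l : K), v ≠ 0 → L v = l • v → Q v ≠ 0 :=
    fun v l hv h h0 => hno v l hv h0 h
  have hl : ∀ (v : Fin 7 → K) (l : K), v ≠ 0 → L v = l • v → l * l = 1 := by
    intro v l hv h
    have h1 := hL v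
    rw [h, Q_smul] at h1
    exact mul_right_cancel₀ (hQ v l hv h) (by linear_combination h1)
  have hB : ∀ u v, polar7 (L u) (L v) = polar7 u v := fun u v => by
    rw [polar7_eq, polar7_eq, ← map_add, hL, hL, hL]
  let N : K → ((Fin 7 → K) →ₗ[K] (Fin 7 → K)) := fun l => L - l • LinearMap.id
  have hN : ∀ l v, N l v = L v - l • v := fun l v => rfl
  have hker : ∀ l v, v ∈ LinearMap.ker (N l) ↔ L v = l • v := fun l v => by
    rw [LinearMap.mem_ker, hN, sub_eq_zero]
  have hone : ∀ l, Module.finrank K (LinearMap.ker (N l)) ≤ 1 := by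
    intro l
    by_contra hgt
    push Not at hgt
    have : Module.Finite K (LinearMap.ker (N l)) := inferInstance
    obtain ⟨f, hf⟩ := exists_linearIndependent_of_le_finrank (R := K) (M := LinearMap.ker (N l)) (n := 2) hgt
    have hv : (f 0 : Fin 7 → K) ≠ 0 := fun h => hf.ne_zero 0 (Subtype.ext h)
    have hQv := hQ _ l hv ((hker l _).1 (f 0).2)
    set P : Polynomial K := Polynomial.C (Q (f 0 : Fin 7 → K)) * Polynomial.X ^ 2 +
      Polynomial.C (polar7 (f 0 : Fin 7 → K) (f 1 : Fin 7 → K)) * Polynomial.X + Polynomial.C (Q (f 1 : Fin 7 → K))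
      with hP
    have hdeg : P.degree ≠ 0 := by
      rw [hP, Polynomial.degree_quadratic hQv]; decide
    obtain ⟨a, ha⟩ := IsAlgClosed.exists_root P hdeg
    have hz : Q (a • (f 0 : Fin 7 → K) + (f 1 : Fin 7 → K)) = 0 := by
      rw [Q_add, Q_smul, polar7_smul_left]
      have := ha
      rw [Polynomial.IsRoot, hP] at this
      simp only [Polynomial.eval_add, Polynomial.eval_mul, Polynomial.eval_C, Polynomial.eval_pow,
        Polynomial.eval_X] at this
      linear_combination this
    have hne : (a • f 0 + f 1 : LinearMap.ker (N l)) ≠ 0 := by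
      intro h
      have h' := Fintype.linearIndependent_iff.1 hf ![a, 1] (by simpa [Fin.sum_univ_two] using h) 1
      simp at h'
    exact hQ _ l (fun h => hne (Subtype.ext h)) ((hker l _).1 (a • f 0 + f 1).2) hz
  have hcube : ∀ l w, N l (N l (N l w)) = 0 → N l (N l w) = 0 := by
    intro l w hw
    by_contra hv0
    set z := N l w with hz
    set v := N l z with hv
    have hLv : L v = l • v := (hker l v).1 (LinearMap.mem_ker.2 hw)
    have hll := hl v l hv0 hLv
    have hLz : L z = l • z + v := by rw [hv, hN]; abel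
    have h1 := hL z
    rw [hLz, Q_add, Q_smul, polar7_smul_left, pow_two, hll, one_mul] at h1
    have h2 : polar7 z v = 0 := by
      rw [hz, hN, polar7_sub_left, polar7_smul_left]
      have e : polar7 (L w) v = l * polar7 w v := by
        have e0 := hB w v
        rw [hLv, polar7_smul_right] at e0
        linear_combination (-polar7 (L w) v) * hll + l * e0
      rw [e, sub_self]
    rw [h2, mul_zero, add_zero] at h1
    exact hQ v l hv0 hLv (by linear_combination h1)
  have hgen : ∀ l, (Module.End.maxGenEigenspace L l) ≤ LinearMap.ker (N l ∘ₗ N l) := by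
    intro l v hv
    obtain ⟨k, hk⟩ := (Module.End.mem_maxGenEigenspace L l v).1 hv
    have key : ∀ k v, ((N l : Module.End K (Fin 7 → K)) ^ k) v = 0 → N l (N l v) = 0 := by
      intro k
      induction k with
      | zero => intro v h; simp only [pow_zero, Module.End.one_apply] at h; simp [h]
      | succ k ih =>
        intro v h
        rw [pow_succ, Module.End.mul_apply] at h
        exact hcube l v (ih _ h)
    exact LinearMap.mem_ker.2 (key k v hk)
  have hsmall : ∀ l, Module.finrank K (Module.End.maxGenEigenspace L l) ≤ 2 := fun l => by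
    have h1 := Submodule.finrank_mono (hgen l)
    have h2 := finrank_ker_sq_le (N l)
    have h3 := hone l
    omega
  have htriv : ∀ l, l ≠ 1 → l ≠ -1 → Module.End.maxGenEigenspace L l = ⊥ := by
    intro l h1 h2
    rw [eq_bot_iff]
    intro v hv
    have hv2 : N l (N l v) = 0 := LinearMap.mem_ker.1 (hgen l hv)
    have hno' : ∀ u, N l u = 0 → u = 0 := by
      intro u hu
      by_contra hu0
      rcases mul_self_eq_one_iff.1 (hl u l hu0 ((hker l u).1 (LinearMap.mem_ker.2 hu))) with h | h
      · exact h1 h
      · exact h2 h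
    exact (Submodule.mem_bot K).2 (hno' v (hno' _ hv2))
  have hle : (⊤ : Submodule K (Fin 7 → K)) ≤
      Module.End.maxGenEigenspace L 1 ⊔ Module.End.maxGenEigenspace L (-1) := by
    rw [← Module.End.iSup_maxGenEigenspace_eq_top L]
    refine iSup_le fun l => ?_
    by_cases h1 : l = 1
    · rw [h1]; exact le_sup_left
    by_cases h2 : l = -1
    · rw [h2]; exact le_sup_right
    rw [htriv l h1 h2]; exact bot_le
  have h7 := Submodule.finrank_mono hle
  rw [finrank_top, Module.finrank_fintype_fun_eq_card, Fintype.card_fin] at h7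
  have h8 := Submodule.finrank_add_le_finrank_add_finrank (Module.End.maxGenEigenspace L 1)
    (Module.End.maxGenEigenspace L (-1))
  have := hsmall 1
  have := hsmall (-1)
  omega

end Cfsg.Agent.Lie.G2Orders
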