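import Cfsg.Agent.Lib.Lie.G2Orders.Torus
import Cfsg.Agent.Lib.Lie.G2Orders.Eigen

/-!
Over an algebraically closed field every element of the group of type G2 is conjugate into the Borel subgroup.
-/

set_option autoImplicit false
set_option maxRecDepth 100000

namespace Cfsg.Agent.Lie.G2Orders

open Cfsg.Lie Matrix
open scoped MatrixGroups

variable {K : Type*} [Field K]

/-- The matrix of an element. -/
noncomputable abbrev mx (g : GG K) : Matrix (Fin 7) (Fin 7) K := (psi g : Matrix (Fin 7) (Fin 7) K)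

theorem mx_one : mx (1 : GG K) = 1 := by rw [mx, map_one, Units.val_one]

theorem mx_mul (a b : GG K) : mx (a * b) = mx a * mx b := by rw [mx, map_mul, Units.val_mul]

theorem mx_inv_mul (a : GG K) : mx a⁻¹ * mx a = 1 := by rw [← mx_mul, inv_mul_cancel, mx_one]

/-- The subgroup generated by the root elements of a list. -/
noncomputable def US7 (L : List ℕ) : Subgroup (GG K) :=
  Subgroup.comap (chevG2.group K).subtype ((factsG2.tsys K).US L)

theorem mem_US7 {L : List ℕ} {g : GG K} :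
    g ∈ US7 L ↔ (g : GL chevG2.Idx K) ∈ (factsG2.tsys K).US L := Iff.rfl

theorem xx_mem_US7 {L : List ℕ} {r : ℕ} (hr : r ∈ L) (t : K) : xx r t ∈ US7 L :=
  CommSys.x_mem_US _ hr t

theorem US7_le {L : List ℕ} {H : Subgroup (GG K)} (h : ∀ r ∈ L, ∀ t, xx r t ∈ H) : US7 L ≤ H := by
  intro g hg
  have h1 : (factsG2.tsys K).US L ≤ H.map (chevG2.group K).subtype :=
    CommSys.US_le _ fun r hr t => ⟨xx r t, h r hr t, rfl⟩
  obtain ⟨g', hg', e⟩ := h1 hg
  rwa [← Subtype.ext (a1 := g') (a2 := g) e]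

theorem posL_G2 : Facts.posL chevG2 = [6, 7, 8, 9, 10, 11] := by decide +kernel

/-- An upper triangular matrix. -/
def Tri (M : Matrix (Fin 7) (Fin 7) K) : Prop := ∀ i j, j < i → M i j = 0

theorem tri_mul {M N : Matrix (Fin 7) (Fin 7) K} (hM : Tri M) (hN : Tri N) : Tri (M * N) := by
  intro i j hij
  rw [Matrix.mul_apply]
  refine Finset.sum_eq_zero fun k _ => ?_
  rcases lt_or_ge k i with h | h
  · rw [hM i k h, zero_mul]
  · rw [hN k j (lt_of_lt_of_le hij h), mul_zero]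

theorem tri_one : Tri (1 : Matrix (Fin 7) (Fin 7) K) := fun _ _ h => Matrix.one_apply_ne h.ne'

theorem tri_diag_mul {M N : Matrix (Fin 7) (Fin 7) K} (hM : Tri M) (hN : Tri N) (i : Fin 7) :
    (M * N) i i = M i i * N i i := by
  rw [Matrix.mul_apply, Finset.sum_eq_single i]
  · intro k _ hk
    rcases lt_or_gt_of_ne hk with h | h
    · rw [hM i k h, zero_mul]
    · rw [hN k i h, mul_zero]
  · simp

/-- Elements with upper unitriangular matrices. -/
noncomputable def UniTri (K : Type*) [Field K] : Subgroup (GG K) where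
  carrier := {g | (Tri (mx g) ∧ ∀ i, mx g i i = 1) ∧ (Tri (mx g⁻¹) ∧ ∀ i, mx g⁻¹ i i = 1)}
  one_mem' := by
    have h : Tri (mx (1 : GG K)) ∧ ∀ i, mx (1 : GG K) i i = 1 := by
      rw [mx_one]; exact ⟨tri_one, fun i => Matrix.one_apply_eq i⟩
    exact ⟨h, by rwa [inv_one]⟩
  mul_mem' := by
    rintro a b ⟨⟨ha, ha1⟩, ha', ha1'⟩ ⟨⟨hb, hb1⟩, hb', hb1'⟩
    refine ⟨?_, ?_⟩
    · rw [mx_mul]; exact ⟨tri_mul ha hb, fun i => by rw [tri_diag_mul ha hb, ha1, hb1, one_mul]⟩
    · rw [_root_.mul_inv_rev, mx_mul]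
      exact ⟨tri_mul hb' ha', fun i => by rw [tri_diag_mul hb' ha', ha1', hb1', one_mul]⟩
  inv_mem' := by
    rintro a ⟨h, h'⟩
    exact ⟨h', by rwa [inv_inv]⟩

theorem chk_pos : ∀ r : Fin 12, 6 ≤ r.val → ∀ m ∈ g2Rep.ent r.val, m.row < m.col := by decide +kernel

theorem m7_tri {r : ℕ} (h1 : 6 ≤ r) (t : K) : Tri (m7 r t) ∧ ∀ i, m7 r t i i = 1 := by
  have key : ∀ L : List Tm, (∀ m ∈ L, m.row < m.col) → ∀ i j : Fin 7, j ≤ i →
      evL (Equiv.refl (Fin 7)) t t L i j = 0 := by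
    intro L
    induction L with
    | nil => simp
    | cons m L ih =>
      intro h i j hij
      rw [evL_cons, Matrix.add_apply, ih (fun x hx => h x (List.mem_cons_of_mem _ hx)) i j hij, add_zero,
        Tm.ev, Matrix.smul_apply, matUnit_apply, if_neg, smul_zero]
      rintro ⟨e1, e2⟩
      have := h m List.mem_cons_self
      simp only [Equiv.refl_apply] at e1 e2
      omega
  by_cases hr : r < 12
  · have hlist : ∀ m ∈ (g2Rep.ent r).map fun m => (⟨m.row, m.col, m.a, 0, m.c⟩ : Tm), m.row < m.col := by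
      intro m hm
      obtain ⟨m', hm', rfl⟩ := List.mem_map.1 hm
      exact chk_pos ⟨r, hr⟩ h1 m' hm'
    refine ⟨fun i j hij => ?_, fun i => ?_⟩
    · rw [m7, Matrix.add_apply, key _ hlist i j hij.le, Matrix.one_apply_ne hij.ne', add_zero]
    · rw [m7, Matrix.add_apply, key _ hlist i i le_rfl, Matrix.one_apply_eq, add_zero]
  · rw [m7_out (not_lt.1 hr)]; exact ⟨tri_one, fun i => Matrix.one_apply_eq i⟩

theorem US7_le_uniTri {L : List ℕ} (hL : ∀ r ∈ L, 6 ≤ r) : US7 L ≤ UniTri K := by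
  refine US7_le fun r hr t => ?_
  refine ⟨?_, ?_⟩
  · rw [mx, psi_xx]; exact m7_tri (hL r hr) t
  · rw [← xx_neg, mx, psi_xx]; exact m7_tri (hL r hr) _

/-- The unipotent subgroup. -/
noncomputable def U7 (K : Type*) [Field K] : Subgroup (GG K) := US7 [6, 7, 8, 9, 10, 11]

theorem mem_U7 {g : GG K} : g ∈ U7 K ↔ (g : GL chevG2.Idx K) ∈ (factsG2.tsys K).U := by
  rw [U7, mem_US7, TorusSys.U, posL_G2]

theorem U7_le_uniTri : U7 K ≤ UniTri K := US7_le_uniTri (by decide)

theorem exists_tor {a : GL chevG2.Idx K} (ha : a ∈ (factsG2.tsys K).H) :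
    ∃ c, a = ((tor c : GG K) : GL chevG2.Idx K) := by
  rw [factsG2.tsys_H, factsG2.diagonalSubgroup_eq] at ha
  obtain ⟨c, rfl⟩ := ha
  exact ⟨c, rfl⟩

theorem mem_B7 {g : GG K} (hg : (g : GL chevG2.Idx K) ∈ (factsG2.tsys K).B) :
    ∃ u ∈ U7 K, ∃ c, g = u * tor c := by
  obtain ⟨u, hu, a, ha, e⟩ := (factsG2.tsys K).mem_B.1 hg
  obtain ⟨c, rfl⟩ := exists_tor ha
  have hu' : u ∈ chevG2.group K := by
    rw [show u = (g : GL chevG2.Idx K) * ((tor c : GG K) : GL chevG2.Idx K)⁻¹ by rw [e]; group]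
    exact mul_mem g.2 (inv_mem (tor c).2)
  exact ⟨⟨u, hu'⟩, mem_U7.2 hu, c, Subtype.ext e⟩

theorem tri_of_mem_B {g : GG K} (hg : (g : GL chevG2.Idx K) ∈ (factsG2.tsys K).B) : Tri (mx g) := by
  obtain ⟨u, hu, c, rfl⟩ := mem_B7 hg
  rw [mx_mul, mx, mx, psi_tor]
  exact tri_mul (U7_le_uniTri hu).1.1 fun i j h => Matrix.diagonal_apply_ne _ h.ne'

theorem tri_mulVec {M : Matrix (Fin 7) (Fin 7) K} (hM : Tri M) {v : Fin 7 → K} {k : Fin 7}
    (hv : ∀ i, k < i → v i = 0) : ∀ i, k < i → (M *ᵥ v) i = 0 := by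
  intro i hi
  rw [Matrix.mulVec, dotProduct]
  refine Finset.sum_eq_zero fun l _ => ?_
  rcases lt_or_ge l i with h | h
  · rw [hM i l h, zero_mul]
  · rw [hv l (lt_of_lt_of_le hi h), mul_zero]

theorem eq_single_zero {v : Fin 7 → K} (hv : ∀ i, 0 < i → v i = 0) : v = Pi.single 0 (v 0) := by
  funext i
  rcases eq_or_ne i 0 with rfl | h
  · rw [Pi.single_eq_same]
  · rw [hv i (Fin.pos_iff_ne_zero.2 h), Pi.single_eq_of_ne h]

theorem mx_mulVec_ne {g : GG K} {v : Fin 7 → K} (hv : v ≠ 0) : mx g *ᵥ v ≠ 0 := fun h => hv (by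
  rw [← Matrix.one_mulVec v, ← mx_inv_mul g, ← Matrix.mulVec_mulVec, h, Matrix.mulVec_zero])

theorem smul_fix_nine {w : factsG2.weyl} (h9 : w • rho 0 = rho 0) (h8 : w • rho 1 = rho 1) : w = 1 := by
  refine factsG2.eq_one_of_fix_simple w fun m => ?_
  have hsimp : factsG2.refSys.α m = rho 2 ∨ factsG2.refSys.α m = (⟨6, by decide⟩ : Fin chevG2.nroots) := by
    have : ∀ m : Fin chevG2.rank, chevG2.simple m.val = 7 ∨ chevG2.simple m.val = 6 := by decide +kernel
    rcases this m with h | h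
    · exact Or.inl (Fin.ext h)
    · exact Or.inr (Fin.ext h)
  have ha : w • rho 2 = rho 2 := by
    refine Fin.ext (factsG2.psi_inj (Fin.isLt _) (Fin.isLt _) fun k hk => ?_)
    have t : ∀ k, k < chevG2.rank → chevG2.cartan k (rho 2).val =
        chevG2.cartan k (rho 0).val - 1 * chevG2.cartan k (rho 1).val := by decide +kernel
    rw [factsG2.weyl_linear w (rho 2) (rho 0) (rho 1) 1 t k hk, h9, h8, t k hk]
  rcases hsimp with h | h <;> rw [h]
  · exact ha
  · refine Fin.ext (factsG2.psi_inj (Fin.isLt _) (Fin.isLt _) fun k hk => ?_)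
    have t : ∀ k, k < chevG2.rank → chevG2.cartan k 6 =
        chevG2.cartan k (rho 1).val - 1 * chevG2.cartan k (rho 2).val := by decide +kernel
    rw [factsG2.weyl_linear w ⟨6, by decide⟩ (rho 1) (rho 2) 1 t k hk, h8, ha, t k hk]

/-- Data of an element b n u. -/
theorem exists_bnu (g : GG K) : ∃ (b : GG K) (w : factsG2.weyl) (u : GG K),
    (b : GL chevG2.Idx K) ∈ (factsG2.tsys K).B ∧ Tri (mx b⁻¹) ∧ u ∈ U7 K ∧
      g = b * nw7 (TorusSys.word w) * u := by
  obtain ⟨b, hb, w, u, hu, e⟩ := factsG2.mem_bnu g.2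
  have huU : u ∈ (factsG2.tsys K).U := by
    refine CommSys.US_mono _ (fun r hr => ?_) hu
    exact Facts.mem_posL.2 ((TorusSys.closed_invList w).mem_pos r hr)
  have hu' : u ∈ chevG2.group K :=
    CommSys.US_le (factsG2.tsys K).toCommSys (fun r _ t => factsG2.xg_mem_group r t) huU
  have hb' : b ∈ chevG2.group K := by
    rw [show b = (g : GL chevG2.Idx K) * u⁻¹ * ((factsG2.tsys K).nW w)⁻¹ by rw [e]; group]
    exact mul_mem (mul_mem g.2 (inv_mem hu')) (inv_mem (factsG2.nW_mem_group w))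
  refine ⟨⟨b, hb'⟩, w, ⟨u, hu'⟩, hb, tri_of_mem_B (inv_mem hb : b⁻¹ ∈ _), mem_U7.2 huU,
    Subtype.ext ?_⟩
  rw [Subgroup.coe_mul, Subgroup.coe_mul, coe_nw7, e]
  rfl

theorem fix_line_weyl {g b u : GG K} {w : factsG2.weyl} (hb : Tri (mx b⁻¹)) (hu : u ∈ UniTri K)
    (e : g = b * nw7 (TorusSys.word w) * u) {l : K} (hg : mx g *ᵥ Pi.single 0 1 = l • Pi.single 0 1) :
    w • rho 0 = rho 0 := by
  obtain ⟨j, c, hj, hc, hroot, hv⟩ := nw7_single (K := K) (TorusSys.word w) 0 (by decide) 1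
  rw [TorusSys.pr_word] at hroot
  have hu0 : mx u *ᵥ Pi.single 0 1 = Pi.single 0 (1 : K) := by
    have h := eq_single_zero (tri_mulVec hu.1.1 (v := Pi.single 0 (1 : K)) (k := 0)
      fun i hi => Pi.single_eq_of_ne hi.ne' _)
    rw [h, Matrix.mulVec_single_one]
    exact congrArg _ (hu.1.2 0)
  have hn : mx (nw7 (TorusSys.word w)) *ᵥ Pi.single 0 1 = mx b⁻¹ *ᵥ (l • Pi.single 0 1) := by
    rw [← hg, e, mx_mul, mx_mul, Matrix.mulVec_mulVec, ← Matrix.mul_assoc, ← Matrix.mul_assoc, mx_inv_mul,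
      Matrix.one_mul, ← Matrix.mulVec_mulVec, hu0]
  have hj0 : j = 0 := by
    by_contra hne
    have h0 := congrFun hn j
    rw [show mx (nw7 (TorusSys.word w)) *ᵥ Pi.single 0 (1 : K) = Pi.single j (c * 1) from hv,
      Pi.single_eq_same, mul_one] at h0
    have hz : (mx b⁻¹ *ᵥ (l • Pi.single 0 (1 : K))) j = 0 := tri_mulVec hb (k := 0)
      (fun i hi => by simp [Pi.single_eq_of_ne hi.ne']) j (Fin.pos_iff_ne_zero.2 hne)
    replace h0 := h0.trans hz
    rw [h0, mul_zero] at hc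
    exact zero_ne_one hc
  rw [hroot, hj0]

theorem fix_line_plane {g : GG K} {l : K} (hg : mx g *ᵥ Pi.single 0 1 = l • Pi.single 0 1) (i : Fin 7)
    (hi : i = 1 ∨ i = 2) : ∀ j : Fin 7, 2 < j → mx g j i = 0 := by
  obtain ⟨b, w, u, hbB, hb, huU, e⟩ := exists_bnu g
  have hu := U7_le_uniTri huU
  have h9 := fix_line_weyl hb hu e hg
  have key : ∀ m : Fin 7, m ≤ 2 → ∀ c : K, ∀ j : Fin 7, 2 < j →
      (mx (nw7 (TorusSys.word w)) *ᵥ Pi.single m c) j = 0 := by
    intro m hm c j hj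
    obtain ⟨k, e', hk, -, hroot, hv⟩ := nw7_single (K := K) (TorusSys.word w) m (by omega) c
    rw [TorusSys.pr_word] at hroot
    rw [show mx (nw7 (TorusSys.word w)) *ᵥ Pi.single m c = Pi.single k (e' * c) from hv]
    have hpair := factsG2.weyl_pairing w (rho 0) (rho m)
    rw [h9, hroot] at hpair
    have t : ∀ m k : Fin 7, m ≤ 2 → k ≠ 3 → chevG2.pairing (rho 0).val (rho k).val =
        chevG2.pairing (rho 0).val (rho m).val → k ≤ 2 := by decide +kernel
    exact Pi.single_eq_of_ne (by have := t m k hm hk hpair; omega) _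
  have hstab : ∀ v : Fin 7 → K, (∀ j, 2 < j → v j = 0) →
      ∀ j, 2 < j → (mx (nw7 (TorusSys.word w)) *ᵥ v) j = 0 := by
    intro v hv j hj
    have hd : v = Pi.single 0 (v 0) + Pi.single 1 (v 1) + Pi.single 2 (v 2) := by
      funext x
      fin_cases x <;> simp [hv]
    rw [hd, Matrix.mulVec_add, Matrix.mulVec_add, Pi.add_apply, Pi.add_apply, key 0 (by decide) _ j hj,
      key 1 (by decide) _ j hj, key 2 le_rfl _ j hj, add_zero, add_zero]
  intro j hj
  have h1 : mx g j i = (mx g *ᵥ Pi.single i 1) j := by rw [Matrix.mulVec_single_one]; rfl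
  rw [h1, e, mx_mul, mx_mul, ← Matrix.mulVec_mulVec, ← Matrix.mulVec_mulVec]
  refine tri_mulVec (tri_of_mem_B hbB) (fun x hx => hstab _ (fun y hy => ?_) x hx) j hj
  exact tri_mulVec hu.1.1 (fun z hz => Pi.single_eq_of_ne (by rcases hi with rfl | rfl <;> omega) _) y hy

theorem mem_B_of_flag {g : GG K} {l m k : K} (h0 : mx g *ᵥ Pi.single 0 1 = l • Pi.single 0 1)
    (h1 : mx g *ᵥ Pi.single 1 1 = m • Pi.single 1 1 + k • Pi.single 0 1) :
    (g : GL chevG2.Idx K) ∈ (factsG2.tsys K).B := by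
  obtain ⟨b, w, u, hbB, hb, huU, e⟩ := exists_bnu g
  have hu := U7_le_uniTri huU
  have h9 := fix_line_weyl hb hu e h0
  have h8 : w • rho 1 = rho 1 := by
    obtain ⟨j, c, hj, hc, hroot, hv⟩ := nw7_single (K := K) (TorusSys.word w) 1 (by decide) 1
    rw [TorusSys.pr_word] at hroot
    obtain ⟨j0, c0, hj0, hc0, hroot0, hv0⟩ := nw7_single (K := K) (TorusSys.word w) 0 (by decide) (mx u 0 1)
    rw [TorusSys.pr_word, h9] at hroot0
    obtain rfl : j0 = 0 := by
      have t : ∀ x : Fin 7, x ≠ 3 → rho 0 = rho x → x = 0 := by decide +kernel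
      exact t j0 hj0 hroot0
    suffices hj1 : j = 1 by rw [hroot, hj1]
    have hne : j ≠ 0 := by
      rintro rfl
      rw [← h9] at hroot
      have h := MulAction.injective w hroot
      revert h
      decide +kernel
    by_contra hne1
    have hu1 : mx u *ᵥ Pi.single 1 1 = Pi.single 1 (1 : K) + Pi.single 0 (mx u 0 1) := by
      funext x
      rw [Matrix.mulVec_single_one, Pi.add_apply]
      show mx u x 1 = _
      rcases lt_trichotomy x 1 with h | h | h
      · obtain rfl : x = 0 := by omega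
        simp
      · subst h; simp [hu.1.2 1]
      · rw [hu.1.1 x 1 h, Pi.single_eq_of_ne h.ne', Pi.single_eq_of_ne (by omega), add_zero]
    have hn : mx (nw7 (TorusSys.word w)) *ᵥ (mx u *ᵥ Pi.single 1 1) =
        mx b⁻¹ *ᵥ (m • Pi.single 1 1 + k • Pi.single 0 1) := by
      rw [← h1, e, mx_mul, mx_mul]
      simp only [Matrix.mulVec_mulVec, ← Matrix.mul_assoc]
      rw [mx_inv_mul, Matrix.one_mul]
    rw [hu1, Matrix.mulVec_add, show mx (nw7 (TorusSys.word w)) *ᵥ Pi.single 1 (1 : K) = Pi.single j (c * 1) from hv,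
      show mx (nw7 (TorusSys.word w)) *ᵥ Pi.single 0 (mx u 0 1) = Pi.single 0 (c0 * mx u 0 1) from hv0] at hn
    have h2 := congrFun hn j
    have hjb : 1 < j := by omega
    rw [Pi.add_apply, Pi.single_eq_same, Pi.single_eq_of_ne hne, add_zero, mul_one,
      tri_mulVec hb (k := 1) (fun x hx => by
        rw [Pi.add_apply, Pi.smul_apply, Pi.smul_apply, Pi.single_eq_of_ne hx.ne',
          Pi.single_eq_of_ne (by omega), smul_zero, smul_zero, add_zero]) j hjb] at h2
    rw [h2, mul_zero] at hc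
    exact zero_ne_one hc
  have hw := smul_fix_nine h9 h8
  have hwu : ((nw7 (TorusSys.word w) : GG K) : GL chevG2.Idx K) ∈ (factsG2.tsys K).B := by
    rw [coe_nw7, hw]
    exact (factsG2.tsys K).H_le_B (factsG2.tsys K).nW_one
  rw [e, Subgroup.coe_mul, Subgroup.coe_mul]
  exact mul_mem (mul_mem hbB hwu) ((factsG2.tsys K).U_le_B (mem_U7.1 huU))

end Cfsg.Agent.Lie.G2Orders
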