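import Cfsg.Agent.Lib.Lie.G2Orders.Borel

/-!
The group of type G2 is transitive on singular points; over an algebraically closed field every element is
conjugate into the Borel subgroup.
-/

set_option autoImplicit false
set_option maxRecDepth 100000

namespace Cfsg.Agent.Lie.G2Orders

open Cfsg.Lie Matrix
open scoped MatrixGroups

variable {K : Type*} [Field K]

theorem exists_lead {v : Fin 7 → K} (hv : v ≠ 0) (hQ : Q v = 0) : ∃ y : GG K, (mx y *ᵥ v) 0 ≠ 0 := by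
  have step : ∀ (k : Fin chevG2.rank) (i : Fin 7) (w : Fin 7 → K), w i ≠ 0 →
      (mx (ns7 k : GG K) *ᵥ w) (sig k i) ≠ 0 := by
    intro k i w hw
    obtain ⟨e, he, h⟩ := ns7_mulVec k w i
    rw [h]
    exact mul_ne_zero (left_ne_zero_of_mul_eq_one he) hw
  let a : Fin chevG2.rank := (0 : Fin 2)
  let b : Fin chevG2.rank := (1 : Fin 2)
  have key : ∀ w : Fin 7 → K, ∀ i : Fin 7, i ≠ 3 → w i ≠ 0 → ∃ y : GG K, (mx y *ᵥ w) 0 ≠ 0 := by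
    have h0 : ∀ w : Fin 7 → K, w 0 ≠ 0 → ∃ y : GG K, (mx y *ᵥ w) 0 ≠ 0 := fun w h => ⟨1, by rwa [mx_one, Matrix.one_mulVec]⟩
    have lift : ∀ (k : Fin chevG2.rank) (i : Fin 7),
        (∀ w : Fin 7 → K, w (sig k i) ≠ 0 → ∃ y : GG K, (mx y *ᵥ w) 0 ≠ 0) →
        ∀ w : Fin 7 → K, w i ≠ 0 → ∃ y : GG K, (mx y *ᵥ w) 0 ≠ 0 := by
      intro k i ih w hw
      obtain ⟨y, hy⟩ := ih _ (step k i w hw)
      exact ⟨y * ns7 k, by rwa [mx_mul, ← Matrix.mulVec_mulVec]⟩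
    have h1 := lift a 1 h0
    have h2 := lift b 2 h1
    have h4 := lift a 4 h2
    have h5 := lift b 5 h4
    have h6 := lift a 6 h5
    intro w i hi hw
    fin_cases i
    · exact h0 w hw
    · exact h1 w hw
    · exact h2 w hw
    · exact absurd rfl hi
    · exact h4 w hw
    · exact h5 w hw
    · exact h6 w hw
  by_contra hno
  have hz : ∀ i : Fin 7, i ≠ 3 → v i = 0 := fun i hi => by
    by_contra h
    exact hno (key v i hi h)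
  refine hv (funext fun i => ?_)
  rcases eq_or_ne i 3 with rfl | h
  · simpa [Q, hz 0 (by decide), hz 1 (by decide), hz 2 (by decide), hz 4 (by decide), hz 5 (by decide),
      hz 6 (by decide)] using hQ
  · exact hz i h

theorem exists_clear (v : Fin 7 → K) (h0 : v 0 ≠ 0) : ∃ y : GG K, (mx y *ᵥ v) 0 = v 0 ∧
    (mx y *ᵥ v) 1 = 0 ∧ (mx y *ᵥ v) 2 = 0 ∧ (mx y *ᵥ v) 3 = 0 ∧ (mx y *ᵥ v) 4 = 0 ∧ (mx y *ᵥ v) 5 = 0 := by
  have e4 : ∀ (t : K) (w : Fin 7 → K), (m7 4 t *ᵥ w) 0 = w 0 ∧ (m7 4 t *ᵥ w) 1 = w 1 + t * w 0 := fun t w => by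
    refine ⟨?_, ?_⟩ <;> simp [m7, g2Rep, g2Ent, Tm.ev, Matrix.mulVec, dotProduct, Fin.sum_univ_seven, matUnit_apply, add_comm]
  have e3 : ∀ (t : K) (w : Fin 7 → K), (m7 3 t *ᵥ w) 0 = w 0 ∧ (m7 3 t *ᵥ w) 1 = w 1 ∧
      (m7 3 t *ᵥ w) 2 = w 2 - t * w 0 := fun t w => by
    refine ⟨?_, ?_, ?_⟩ <;> simp [m7, g2Rep, g2Ent, Tm.ev, Matrix.mulVec, dotProduct, Fin.sum_univ_seven, matUnit_apply]
    ring
  have e2 : ∀ (t : K) (w : Fin 7 → K), (m7 2 t *ᵥ w) 0 = w 0 ∧ (m7 2 t *ᵥ w) 1 = w 1 ∧ (m7 2 t *ᵥ w) 2 = w 2 ∧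
      (m7 2 t *ᵥ w) 3 = w 3 - t * w 0 := fun t w => by
    refine ⟨?_, ?_, ?_, ?_⟩ <;> simp [m7, g2Rep, g2Ent, Tm.ev, Matrix.mulVec, dotProduct, Fin.sum_univ_seven, matUnit_apply]
    ring
  have e1 : ∀ (t : K) (w : Fin 7 → K), (m7 1 t *ᵥ w) 0 = w 0 ∧ (m7 1 t *ᵥ w) 1 = w 1 ∧ (m7 1 t *ᵥ w) 2 = w 2 ∧
      (m7 1 t *ᵥ w) 3 = w 3 ∧ (m7 1 t *ᵥ w) 4 = w 4 + t * w 0 := fun t w => by
    refine ⟨?_, ?_, ?_, ?_, ?_⟩ <;> simp [m7, g2Rep, g2Ent, Tm.ev, Matrix.mulVec, dotProduct, Fin.sum_univ_seven, matUnit_apply, add_comm]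
  have e0 : ∀ (t : K) (w : Fin 7 → K), (m7 0 t *ᵥ w) 0 = w 0 ∧ (m7 0 t *ᵥ w) 1 = w 1 ∧ (m7 0 t *ᵥ w) 2 = w 2 ∧
      (m7 0 t *ᵥ w) 3 = w 3 ∧ (m7 0 t *ᵥ w) 4 = w 4 ∧ (m7 0 t *ᵥ w) 5 = w 5 - t * w 0 := fun t w => by
    refine ⟨?_, ?_, ?_, ?_, ?_, ?_⟩ <;> simp [m7, g2Rep, g2Ent, Tm.ev, Matrix.mulVec, dotProduct, Fin.sum_univ_seven, matUnit_apply]
    ring
  obtain ⟨a0, a1⟩ := e4 (-(v 1 / v 0)) v
  generalize ha : m7 4 (-(v 1 / v 0)) *ᵥ v = w1 at a0 a1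
  replace a1 : w1 1 = 0 := by rw [a1]; field_simp; ring
  obtain ⟨b0, b1, b2⟩ := e3 (w1 2 / v 0) w1
  generalize hb : m7 3 (w1 2 / v 0) *ᵥ w1 = w2 at b0 b1 b2
  rw [a0] at b0 b2
  rw [a1] at b1
  replace b2 : w2 2 = 0 := by rw [b2]; field_simp; ring
  obtain ⟨c0, c1, c2, c3⟩ := e2 (w2 3 / v 0) w2
  generalize hc : m7 2 (w2 3 / v 0) *ᵥ w2 = w3 at c0 c1 c2 c3
  rw [b0] at c0 c3
  rw [b1] at c1
  rw [b2] at c2
  replace c3 : w3 3 = 0 := by rw [c3]; field_simp; ring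
  obtain ⟨d0, d1, d2, d3, d4⟩ := e1 (-(w3 4 / v 0)) w3
  generalize hd : m7 1 (-(w3 4 / v 0)) *ᵥ w3 = w4 at d0 d1 d2 d3 d4
  rw [c0] at d0 d4
  rw [c1] at d1
  rw [c2] at d2
  rw [c3] at d3
  replace d4 : w4 4 = 0 := by rw [d4]; field_simp; ring
  obtain ⟨f0, f1, f2, f3, f4, f5⟩ := e0 (w4 5 / v 0) w4
  generalize hf : m7 0 (w4 5 / v 0) *ᵥ w4 = w5 at f0 f1 f2 f3 f4 f5
  rw [d0] at f0 f5
  rw [d1] at f1
  rw [d2] at f2
  rw [d3] at f3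
  rw [d4] at f4
  replace f5 : w5 5 = 0 := by rw [f5]; field_simp; ring
  refine ⟨xx 0 (w4 5 / v 0) * (xx 1 (-(w3 4 / v 0)) * (xx 2 (w2 3 / v 0) * (xx 3 (w1 2 / v 0) * xx 4 (-(v 1 / v 0))))), ?_⟩
  have e : mx (xx 0 (w4 5 / v 0) * (xx 1 (-(w3 4 / v 0)) * (xx 2 (w2 3 / v 0) * (xx 3 (w1 2 / v 0) * xx 4 (-(v 1 / v 0)))))) *ᵥ v = w5 := by
    simp only [mx_mul, mx, psi_xx, ← Matrix.mulVec_mulVec, ha, hb, hc, hd, hf]
  rw [e]
  exact ⟨f0, f1, f2, f3, f4, f5⟩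

/-- Transitivity on singular points. -/
theorem exists_move {v : Fin 7 → K} (hv : v ≠ 0) (hQ : Q v = 0) :
    ∃ (y : GG K) (c : K), c ≠ 0 ∧ mx y *ᵥ v = Pi.single 0 c := by
  obtain ⟨y, hy⟩ := exists_lead hv hQ
  obtain ⟨z, h0, h1, h2, h3, h4, h5⟩ := exists_clear (mx y *ᵥ v) hy
  refine ⟨z * y, (mx y *ᵥ v) 0, hy, ?_⟩
  rw [mx_mul, ← Matrix.mulVec_mulVec]
  set w := mx z *ᵥ (mx y *ᵥ v) with hw
  have hQw : Q w = 0 := by rw [hw, mx, Q_psi, mx, Q_psi, hQ]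
  have h6 : w 6 = 0 := by
    simp only [Q, h0, h1, h2, h3, h4, h5] at hQw
    have : (mx y *ᵥ v) 0 * w 6 = 0 := by linear_combination hQw
    exact (mul_eq_zero.1 this).resolve_left hy
  funext i
  fin_cases i <;> simp [h0, h1, h2, h3, h4, h5, h6]

/-- Every element is conjugate into the Borel subgroup. -/
theorem exists_conj_B [IsAlgClosed K] (g : GG K) :
    ∃ y : GG K, ((y * g * y⁻¹ : GG K) : GL chevG2.Idx K) ∈ (factsG2.tsys K).B := by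
  obtain ⟨v, l, hv, hQ, hgv⟩ := exists_singular_eigenvector (Matrix.mulVecLin (mx g))
    (fun v => by rw [Matrix.mulVecLin_apply]; exact Q_psi g v)
  rw [Matrix.mulVecLin_apply] at hgv
  obtain ⟨y, c, hc, hy⟩ := exists_move hv hQ
  have h0 : mx (y * g * y⁻¹) *ᵥ Pi.single 0 1 = l • Pi.single 0 1 := by
    have e : mx (y * g * y⁻¹) *ᵥ Pi.single 0 c = l • Pi.single 0 c := by
      rw [← hy, mx_mul, mx_mul, ← Matrix.mulVec_mulVec, ← Matrix.mulVec_mulVec, Matrix.mulVec_mulVec v (mx y⁻¹),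
        mx_inv_mul, Matrix.one_mulVec, hgv, Matrix.mulVec_smul]
    have hs : (Pi.single 0 c : Fin 7 → K) = c • Pi.single 0 1 := by rw [← Pi.single_smul', smul_eq_mul, mul_one]
    rw [hs, Matrix.mulVec_smul, smul_comm] at e
    exact smul_right_injective _ hc e
  set g1 := y * g * y⁻¹ with hg1
  have hp1 := fix_line_plane h0 1 (Or.inl rfl)
  have hp2 := fix_line_plane h0 2 (Or.inr rfl)
  obtain ⟨m, hm⟩ := Module.End.exists_eigenvalue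
    (Matrix.mulVecLin !![mx g1 1 1, mx g1 1 2; mx g1 2 1, mx g1 2 2] : Module.End K (Fin 2 → K))
  obtain ⟨u, hu⟩ := hm.exists_hasEigenvector
  have hu1 := hu.apply_eq_smul
  rw [Matrix.mulVecLin_apply] at hu1
  have r1 : mx g1 1 1 * u 0 + mx g1 1 2 * u 1 = m * u 0 := by
    simpa [Matrix.mulVec, dotProduct] using congrFun hu1 0
  have r2 : mx g1 2 1 * u 0 + mx g1 2 2 * u 1 = m * u 1 := by
    simpa [Matrix.mulVec, dotProduct] using congrFun hu1 1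
  set z : Fin 7 → K := u 0 • Pi.single 1 1 + u 1 • Pi.single 2 1 with hz
  have hgz : mx g1 *ᵥ z = m • z + (mx g1 0 1 * u 0 + mx g1 0 2 * u 1) • Pi.single 0 1 := by
    funext i
    rw [hz, Matrix.mulVec_add, Matrix.mulVec_smul, Matrix.mulVec_smul, Matrix.mulVec_single_one, Matrix.mulVec_single_one]
    rcases lt_or_ge 2 i with h | h
    · have a1 : mx g1 i 1 = 0 := hp1 i h
      have a2 : mx g1 i 2 = 0 := hp2 i h
      simp [a1, a2, Pi.single_eq_of_ne (show i ≠ 0 by omega), Pi.single_eq_of_ne (show i ≠ 1 by omega),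
        Pi.single_eq_of_ne (show i ≠ 2 by omega)]
    · obtain rfl | rfl | rfl : i = 0 ∨ i = 1 ∨ i = 2 := by omega
      · simp; ring
      · simp; linear_combination r1
      · simp; linear_combination r2
  have hy2 : ∃ (w : GG K) (c2 : K), c2 ≠ 0 ∧ (∃ e : K, e ≠ 0 ∧ mx w *ᵥ Pi.single 0 1 = e • Pi.single 0 1) ∧
      mx w *ᵥ Pi.single 1 1 = c2 • z := by
    by_cases ha : u 0 = 0
    · let b : Fin chevG2.rank := (1 : Fin 2)
      have hb0 : u 1 ≠ 0 := fun h => hu.2 (funext fun i => by fin_cases i <;> assumption)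
      obtain ⟨e0, he0, h00⟩ := ns7_single (K := K) b 0 1
      obtain ⟨e1, he1, h11⟩ := ns7_single (K := K) b 1 1
      refine ⟨ns7 b, e1 / u 1, div_ne_zero (left_ne_zero_of_mul_eq_one he1) hb0,
        ⟨e0, left_ne_zero_of_mul_eq_one he0, ?_⟩, ?_⟩
      · rw [show mx (ns7 b : GG K) *ᵥ Pi.single 0 (1 : K) = Pi.single (sig b 0) (e0 * 1) from h00, ← Pi.single_smul']
        rfl
      · rw [show mx (ns7 b : GG K) *ᵥ Pi.single 1 (1 : K) = Pi.single (sig b 1) (e1 * 1) from h11, hz, ha, zero_smul,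
          zero_add, smul_smul, div_mul_cancel₀ _ hb0, ← Pi.single_smul']
        rfl
    · refine ⟨xx 5 (u 1 / u 0), (u 0)⁻¹, inv_ne_zero ha, ⟨1, one_ne_zero, ?_⟩, ?_⟩ <;> funext i <;> fin_cases i <;>
        simp [mx, psi_xx, m7, g2Rep, g2Ent, Tm.ev, matUnit_apply, hz, ha, div_eq_inv_mul]
  obtain ⟨w, c2, hc2, ⟨e, he, hw0⟩, hw1⟩ := hy2
  have hconj : (w⁻¹ * y) * g * (w⁻¹ * y)⁻¹ = w⁻¹ * g1 * w := by rw [hg1]; group
  have hw0' : mx w⁻¹ *ᵥ Pi.single 0 1 = e⁻¹ • Pi.single 0 (1 : K) := by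
    have h := congrArg (fun x => e⁻¹ • (mx w⁻¹ *ᵥ x)) hw0
    simp only [Matrix.mulVec_mulVec, mx_inv_mul, Matrix.one_mulVec, Matrix.mulVec_smul, smul_smul,
      inv_mul_cancel₀ he, one_smul] at h
    exact h.symm
  refine ⟨w⁻¹ * y, mem_B_of_flag (l := l) (m := m)
    (k := (mx g1 0 1 * u 0 + mx g1 0 2 * u 1) * c2 * e⁻¹) ?_ ?_⟩
  all_goals rw [hconj, mx_mul, mx_mul, ← Matrix.mulVec_mulVec, ← Matrix.mulVec_mulVec]
  · rw [hw0, Matrix.mulVec_smul, h0, Matrix.mulVec_smul, Matrix.mulVec_smul, hw0', smul_smul, smul_smul]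
    congr 1
    field_simp
  · have hwz : mx w⁻¹ *ᵥ z = c2⁻¹ • Pi.single 1 (1 : K) := by
      have h := congrArg (fun x => c2⁻¹ • (mx w⁻¹ *ᵥ x)) hw1
      simp only [Matrix.mulVec_mulVec, mx_inv_mul, Matrix.one_mulVec, Matrix.mulVec_smul, smul_smul,
        inv_mul_cancel₀ hc2, one_smul] at h
      exact h.symm
    rw [hw1, Matrix.mulVec_smul, hgz, Matrix.mulVec_smul, Matrix.mulVec_add, Matrix.mulVec_smul, Matrix.mulVec_smul,
      hwz, hw0', smul_add, smul_smul, smul_smul, smul_smul, smul_smul]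
    congr 2 <;> field_simp

end Cfsg.Agent.Lie.G2Orders
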