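import Cfsg.Agent.Lib.Lie.G2Orders.Conj

/-!
In the Borel subgroup an element is conjugate to a product of a diagonal element and commuting root elements.
-/

set_option autoImplicit false
set_option maxRecDepth 100000

namespace Cfsg.Agent.Lie.G2Orders

open Cfsg.Lie
open scoped MatrixGroups

variable {K : Type*} [Field K]

/-- The positive roots from m on. -/
def sufL (m : ℕ) : List ℕ := List.range' m (12 - m)

theorem mem_sufL {m r : ℕ} : r ∈ sufL m ↔ m ≤ r ∧ r < 12 := by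
  rw [sufL, List.mem_range'_1]; omega

/-- The positive roots on which an element of the diagonal subgroup is trivial. -/
noncomputable def kerL (c : Fin 2 → Kˣ) : List ℕ := [6, 7, 8, 9, 10, 11].filter fun r => @decide (chi c r = 1) (Classical.propDecidable _)

theorem mem_kerL {c : Fin 2 → Kˣ} {r : ℕ} : r ∈ kerL c ↔ (6 ≤ r ∧ r < 12) ∧ chi c r = 1 := by
  simp only [kerL, List.mem_filter, decide_eq_true_eq]
  have : r ∈ ([6, 7, 8, 9, 10, 11] : List ℕ) ↔ 6 ≤ r ∧ r < 12 := by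
    simp only [List.mem_cons, List.not_mem_nil, or_false]; omega
  rw [this]

theorem commTerms_sufL {r s m : ℕ} (hr : 6 ≤ r) (hr' : r < 12) (hs : 6 ≤ s) (hs' : s < 12) (hm : m ≤ r ∨ m ≤ s + 1)
    {e : ℕ × ℤ × ℕ × ℕ} (he : e ∈ chevG2.commTerms r s) : e.1 ∈ sufL m := by
  obtain ⟨h1, h2, h3⟩ := factsG2.commTerms_gt (show r < chevG2.nroots from hr') (show s < chevG2.nroots from hs')
    (show chevG2.nroots / 2 ≤ r from hr) (show chevG2.nroots / 2 ≤ s from hs) he
  exact mem_sufL.2 ⟨by omega, h1⟩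

theorem neg_lt_six : ∀ r : Fin 12, 6 ≤ r.val → chevG2.neg r.val < 6 := by decide +kernel

theorem closed_sufL {m : ℕ} (hm : 6 ≤ m) : ClosedList chevG2 (sufL m) := by
  refine ⟨List.pairwise_lt_range' , fun r hr => ?_, fun r hr s hs _ e he => ?_⟩
  · obtain ⟨h1, h2⟩ := mem_sufL.1 hr
    exact ⟨show 6 ≤ r by omega, h2⟩
  · obtain ⟨h1, h2⟩ := mem_sufL.1 hr
    obtain ⟨h3, h4⟩ := mem_sufL.1 hs
    exact commTerms_sufL (by omega) h2 (by omega) h4 (Or.inl h1) he

theorem xx_normalizes {m r : ℕ} (hm : 6 ≤ m) (hr : 6 ≤ r) (hr' : r < 12) (t : K) {g : GG K}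
    (hg : g ∈ US7 (sufL m)) : (xx r t)⁻¹ * g * xx r t ∈ US7 (sufL m) := by
  rw [mem_US7] at hg ⊢
  refine CommSys.conj_mem_US _ (show r < chevG2.nroots from hr') (fun s hs => ?_) t hg
  obtain ⟨h1, h2⟩ := mem_sufL.1 hs
  refine ⟨h2, ?_, fun _ e he => commTerms_sufL hr hr' (by omega) h2 (Or.inr (by omega)) he⟩
  have := neg_lt_six ⟨r, hr'⟩ hr
  simp only at this
  omega

theorem xx_normalizes' {m r : ℕ} (hm : 6 ≤ m) (hr : 6 ≤ r) (hr' : r < 12) (t : K) {g : GG K}
    (hg : g ∈ US7 (sufL m)) : xx r t * g * (xx r t)⁻¹ ∈ US7 (sufL m) := by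
  have h := xx_normalizes hm hr hr' (-t) hg
  rwa [xx_neg, inv_inv] at h

theorem tor_commute {c : Fin 2 → Kˣ} : ∀ g ∈ US7 (kerL c), Commute (tor c) g := by
  intro g hg
  have h : US7 (kerL c) ≤ Subgroup.centralizer ({tor c} : Set (GG K)) := US7_le fun r hr t => by
    obtain ⟨⟨h1, h2⟩, hc⟩ := mem_kerL.1 hr
    rw [Subgroup.mem_centralizer_singleton_iff]
    have := tor_conj c h1 h2 t
    rw [hc, Units.val_one, one_mul, mul_inv_eq_iff_eq_mul] at this
    exact this.symm
  exact ((Subgroup.mem_centralizer_singleton_iff.1 (h hg)).symm)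

/-- Removing one coordinate. -/
theorem jordan_step (c : Fin 2 → Kˣ) {m : ℕ} (hm : 6 ≤ m) (hm' : m < 12) {p w : GG K}
    (hp : p ∈ US7 ((kerL c).filter fun r => decide (r < m))) (hw : w ∈ US7 (sufL m)) :
    ∃ y p' w' : GG K, p' ∈ US7 ((kerL c).filter fun r => decide (r < m + 1)) ∧ w' ∈ US7 (sufL (m + 1)) ∧
      y * (p * w * tor c) * y⁻¹ = p' * w' * tor c := by
  obtain ⟨s, w', hw', rfl⟩ : ∃ (s : K) (w' : GG K), w' ∈ US7 (sufL (m + 1)) ∧ w = xx m s * w' := by
    obtain ⟨t, ht⟩ := CommSys.exists_prodOver (factsG2.tsys K).toCommSys (closed_sufL hm) (mem_US7.1 hw)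
    have hl : sufL m = m :: sufL (m + 1) := by
      rw [sufL, sufL, show 12 - m = (12 - (m + 1)) + 1 by omega, List.range'_succ]
    rw [hl, CommSys.prodOver, List.map_cons, List.prod_cons] at ht
    refine ⟨t m, (xx m (t m))⁻¹ * w, ?_, by group⟩
    rw [mem_US7, Subgroup.coe_mul, Subgroup.coe_inv, coe_xx, ht, ← mul_assoc]
    show (factsG2.xg m (t m))⁻¹ * factsG2.xg m (t m) * _ ∈ _
    rw [inv_mul_cancel, one_mul]
    exact CommSys.prodOver_mem _ _ _
  have hpm : p ∈ US7 ((kerL c).filter fun r => decide (r < m + 1)) := by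
    refine US7_le (fun r hr t => xx_mem_US7 ?_ t) hp
    simp only [List.mem_filter, decide_eq_true_eq] at hr ⊢
    exact ⟨hr.1, by omega⟩
  by_cases hc : chi c m = 1
  · refine ⟨1, p * xx m s, w', mul_mem hpm (xx_mem_US7 ?_ s), hw', by group⟩
    simp only [List.mem_filter, decide_eq_true_eq, mem_kerL]
    exact ⟨⟨⟨hm, hm'⟩, hc⟩, by omega⟩
  · set t : K := s / ((chi c m : K) - 1) with ht
    have hne : (chi c m : K) - 1 ≠ 0 := by
      rw [sub_ne_zero]; exact fun h => hc (Units.val_eq_one.1 h)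
    have hts : t + s = (chi c m : K) * t := by rw [ht]; field_simp; ring
    set N := US7 (K := K) (sufL (m + 1)) with hN
    have hyN : ∀ (u : K) {g : GG K}, g ∈ N → xx m u * g * (xx m u)⁻¹ ∈ N :=
      fun u g hg => xx_normalizes' (by omega) hm hm' u hg
    let S : Subgroup (GG K) :=
      { carrier := {q | (∀ g ∈ N, q⁻¹ * g * q ∈ N) ∧ (∀ g ∈ N, q * g * q⁻¹ ∈ N) ∧ q⁻¹ * xx m t * q * (xx m t)⁻¹ ∈ N}
        one_mem' := ⟨fun g hg => by simpa using hg, fun g hg => by simpa using hg, by simp⟩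
        mul_mem' := by
          rintro a b ⟨a1, a2, a3⟩ ⟨b1, b2, b3⟩
          refine ⟨fun g hg => ?_, fun g hg => ?_, ?_⟩
          · rw [show (a * b)⁻¹ * g * (a * b) = b⁻¹ * (a⁻¹ * g * a) * b by group]; exact b1 _ (a1 g hg)
          · rw [show a * b * g * (a * b)⁻¹ = a * (b * g * b⁻¹) * a⁻¹ by group]; exact a2 _ (b2 g hg)
          · rw [show (a * b)⁻¹ * xx m t * (a * b) * (xx m t)⁻¹ =
              (b⁻¹ * (a⁻¹ * xx m t * a * (xx m t)⁻¹) * b) * (b⁻¹ * xx m t * b * (xx m t)⁻¹) by group]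
            exact mul_mem (b1 _ a3) b3
        inv_mem' := by
          rintro a ⟨a1, a2, a3⟩
          refine ⟨fun g hg => by rw [inv_inv]; exact a2 g hg, fun g hg => by rw [inv_inv]; exact a1 g hg, ?_⟩
          rw [show a⁻¹⁻¹ * xx m t * a⁻¹ * (xx m t)⁻¹ = a * (a⁻¹ * xx m t * a * (xx m t)⁻¹)⁻¹ * a⁻¹ by group]
          exact a2 _ (inv_mem a3) }
    have hpS : p ∈ S := by
      refine US7_le (fun r hr u => ?_) hp
      simp only [List.mem_filter, decide_eq_true_eq, mem_kerL] at hr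
      obtain ⟨⟨⟨hr6, hr12⟩, -⟩, hrm⟩ := hr
      refine ⟨fun g hg => xx_normalizes (by omega) hr6 hr12 u hg, fun g hg => xx_normalizes' (by omega) hr6 hr12 u hg, ?_⟩
      have hneg : m ≠ chevG2.neg r := by have := neg_lt_six ⟨r, hr12⟩ hr6; simp only at this; omega
      have h := CommSys.x_conj (factsG2.tsys K).toCommSys r m (show r < chevG2.nroots from hr12)
        (show m < chevG2.nroots from hm') (by omega) hneg u t
      have key : ((factsG2.tsys K).x r u)⁻¹ * (factsG2.tsys K).x m t * (factsG2.tsys K).x r u *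
          ((factsG2.tsys K).x m t)⁻¹ ∈ (factsG2.tsys K).US (sufL (m + 1)) := by
        rw [h]
        have hword : ((chevG2.commWord K r m u t).map fun q => (factsG2.tsys K).x q.1 q.2).prod ∈
            (factsG2.tsys K).US (sufL (m + 1)) := by
          refine CommSys.word_mem _ fun q hq => ?_
          obtain ⟨e, he, rfl⟩ := List.mem_map.1 hq
          exact CommSys.x_mem_US _ (commTerms_sufL hr6 hr12 hm hm' (Or.inr le_rfl) he) _
        have hnorm := CommSys.x_normalizes (factsG2.tsys K).toCommSys (L := sufL (m + 1))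
          (show m < chevG2.nroots from hm') (fun z hz => by
            obtain ⟨z1, z2⟩ := mem_sufL.1 hz
            refine ⟨z2, ?_, fun _ e he => commTerms_sufL hm hm' (by omega) z2 (Or.inr (by omega)) he⟩
            have := neg_lt_six ⟨m, hm'⟩ hm; simp only at this; omega) t
        exact (Subgroup.mem_normalizer_iff.1 hnorm _).1 hword
      exact key
    obtain ⟨-, -, hcomm⟩ := hpS
    set a := p⁻¹ * xx m t * p * (xx m t)⁻¹ with ha
    refine ⟨xx m t, p, a * (xx m ((chi c m : K) * t) * w' * (xx m ((chi c m : K) * t))⁻¹), hpm,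
      mul_mem hcomm (hyN _ hw'), ?_⟩
    have hh : tor c * (xx m t)⁻¹ = (xx m ((chi c m : K) * t))⁻¹ * tor c := by
      rw [← tor_conj c hm hm' t]; group
    calc xx m t * (p * (xx m s * w') * tor c) * (xx m t)⁻¹
        = p * a * (xx m t * xx m s) * w' * (tor c * (xx m t)⁻¹) := by rw [ha]; group
      _ = _ := by rw [hh, ← xx_add, hts]; group

theorem jordan_aux (c : Fin 2 → Kˣ) : ∀ (d m : ℕ), 6 ≤ m → m + d = 12 → ∀ p w : GG K,
    p ∈ US7 ((kerL c).filter fun r => decide (r < m)) → w ∈ US7 (sufL m) →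
    ∃ y u : GG K, u ∈ US7 (kerL c) ∧ y * (p * w * tor c) * y⁻¹ = u * tor c := by
  intro d
  induction d with
  | zero =>
    intro m hm hmd p w hp hw
    refine ⟨1, p, ?_, ?_⟩
    · refine US7_le (fun r hr t => xx_mem_US7 ?_ t) hp
      exact List.mem_of_mem_filter hr
    · have hw1 : w = 1 := by
        have h : US7 (K := K) (sufL m) ≤ ⊥ := US7_le fun r hr t => by
          have := mem_sufL.1 hr; omega
        exact Subgroup.mem_bot.1 (h hw)
      rw [hw1]; group
  | succ d ih =>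
    intro m hm hmd p w hp hw
    obtain ⟨y, p', w', hp', hw', e⟩ := jordan_step c hm (by omega) hp hw
    obtain ⟨y', u, hu, e'⟩ := ih (m + 1) (by omega) (by omega) p' w' hp' hw'
    refine ⟨y' * y, u, hu, ?_⟩
    rw [← e', ← e]; group

/-- The decomposition. -/
theorem exists_jordan [IsAlgClosed K] (g : GG K) {n : ℕ} (hn : g ^ n = 1) :
    ∃ (y : GG K) (c : Fin 2 → Kˣ) (u : GG K), u ∈ US7 (kerL c) ∧ y * g * y⁻¹ = u * tor c ∧
      Commute u (tor c) ∧ u ^ n = 1 ∧ tor c ^ n = 1 := by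
  obtain ⟨y, hy⟩ := exists_conj_B g
  obtain ⟨w, hw, c, e⟩ := mem_B7 hy
  obtain ⟨y', u, hu, e'⟩ := jordan_aux c 6 6 le_rfl rfl 1 w (one_mem _) hw
  have hcomm : Commute u (tor c) := (tor_commute u hu).symm
  have hconj : (y' * y) * g * (y' * y)⁻¹ = u * tor c := by rw [← e', one_mul, ← e]; group
  have h1 : u ^ n * tor c ^ n = 1 := by
    rw [← hcomm.mul_pow, ← hconj, conj_pow, hn]; group
  have hU : u ∈ U7 K := by
    refine US7_le (fun r hr t => xx_mem_US7 ?_ t) hu
    obtain ⟨⟨a, b⟩, -⟩ := mem_kerL.1 hr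
    simp only [List.mem_cons, List.not_mem_nil, or_false]; omega
  have hu1 : u ^ n = 1 := by
    refine Subtype.ext (factsG2.U_inter_H (mem_U7.1 (pow_mem hU n)) ?_)
    rw [eq_inv_of_mul_eq_one_left h1, Subgroup.coe_inv, Subgroup.coe_pow]
    refine inv_mem (pow_mem ?_ n)
    rw [factsG2.tsys_H, factsG2.diagonalSubgroup_eq]
    exact ⟨c, rfl⟩
  exact ⟨y' * y, c, u, hu, hconj, hcomm, hu1, by rwa [hu1, one_mul] at h1⟩

end Cfsg.Agent.Lie.G2Orders
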