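import Cfsg.Agent.Lib.Lie.G2Orders.Rep

/-!
The diagonal subgroup and the representatives of the Weyl group in the seven-dimensional representation.
-/

set_option autoImplicit false
set_option maxRecDepth 100000

namespace Cfsg.Agent.Lie.G2Orders

open Cfsg.Lie Matrix
open scoped MatrixGroups

variable {K : Type*} [Field K]

/-- n_r(t). -/
noncomputable def nn7 (r : ℕ) (t : K) : GG K := xx r t * xx (chevG2.neg r) (-t⁻¹) * xx r t

theorem coe_nn7 (r : ℕ) (t : K) : (nn7 r t : GL chevG2.Idx K) = factsG2.ng r t := by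
  rw [Facts.ng_eq]; rfl

theorem psi_nn7 (r : ℕ) (t : K) :
    (psi (nn7 r t) : Matrix (Fin 7) (Fin 7) K) = m7 r t * m7 (chevG2.neg r) (-t⁻¹) * m7 r t := by
  simp only [nn7, map_mul, Units.val_mul, psi_xx]

theorem evL_nL (r : ℕ) (t : K) :
    evL (Equiv.refl (Fin 7)) t t⁻¹ (g2Rep.nL chevG2 r) = (psi (nn7 r t) : Matrix (Fin 7) (Fin 7) K) := by
  show evL (Equiv.refl (Fin 7)) t t⁻¹ (mulL 7 (mulL 7 (g2Rep.xL r 1 1 0) (g2Rep.xL (chevG2.neg r) (-1) 0 1))
    (g2Rep.xL r 1 1 0)) = _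
  rw [evL_mulL (Equiv.refl (Fin 7)) (by norm_num), evL_mulL (Equiv.refl (Fin 7)) (by norm_num), psi_nn7]
  have h1 := SRep.evL_xL (S := g2Rep) (e := Equiv.refl (Fin 7)) (F := K) r 1 1 0 t t⁻¹
  have h2 := SRep.evL_xL (S := g2Rep) (e := Equiv.refl (Fin 7)) (F := K) (chevG2.neg r) (-1) 0 1 t t⁻¹
  simp only [Int.cast_one, Int.cast_neg, one_mul, pow_one, pow_zero, mul_one, neg_mul] at h1 h2
  exact congrArg₂ (· * ·) (congrArg₂ (· * ·) h1 h2) h1

theorem evL_nOne (r : ℕ) (t : K) :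
    evL (Equiv.refl (Fin 7)) t t⁻¹ (g2Rep.nOne chevG2 r) = (psi (nn7 r (-1 : K)) : Matrix (Fin 7) (Fin 7) K) := by
  show evL (Equiv.refl (Fin 7)) t t⁻¹ (mulL 7 (mulL 7 (g2Rep.xL r (-1) 0 0) (g2Rep.xL (chevG2.neg r) 1 0 0))
    (g2Rep.xL r (-1) 0 0)) = _
  rw [evL_mulL (Equiv.refl (Fin 7)) (by norm_num), evL_mulL (Equiv.refl (Fin 7)) (by norm_num), psi_nn7]
  have h1 := SRep.evL_xL (S := g2Rep) (e := Equiv.refl (Fin 7)) (F := K) r (-1) 0 0 t t⁻¹
  have h2 := SRep.evL_xL (S := g2Rep) (e := Equiv.refl (Fin 7)) (F := K) (chevG2.neg r) 1 0 0 t t⁻¹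
  simp only [Int.cast_one, Int.cast_neg, one_mul, pow_zero, mul_one] at h1 h2
  refine congrArg₂ (· * ·) (congrArg₂ (· * ·) h1 ?_) h1
  rw [inv_neg, inv_one, _root_.neg_neg]
  exact h2

theorem chk_diag : ∀ r : Fin 12, eqL (SRep.reduceL (mulL 7 (g2Rep.nL chevG2 r.val) (g2Rep.nOne chevG2 r.val)))
    (g2Rep.diagL r.val) = true := by decide +kernel

/-- h_r(t). -/
noncomputable def hh7 (r : ℕ) (t : K) : GG K := nn7 r t * nn7 r (-1)

theorem psi_hh7 (r : Fin 12) {t : K} (ht : t ≠ 0) :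
    (psi (hh7 r.val t) : Matrix (Fin 7) (Fin 7) K) = Matrix.diagonal fun i : Fin 7 => t ^ g2Rep.wt r.val i.val := by
  have h := (SRep.evL_reduceL (S := g2Rep) (e := Equiv.refl (Fin 7)) (F := K) (mul_inv_cancel₀ ht) _).symm.trans
    (eqL_sound (R := K) (Equiv.refl (Fin 7)) (chk_diag r) t t⁻¹)
  change evL (Equiv.refl (Fin 7)) t t⁻¹ (mulL 7 _ _) = evL (Equiv.refl (Fin 7)) t t⁻¹ (g2Rep.diagL r.val) at h
  rw [evL_mulL (Equiv.refl (Fin 7)) (by norm_num), evL_nL, evL_nOne,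
    ← Units.val_mul, ← map_mul] at h
  rw [hh7, h]
  exact SRep.evL_diagL (S := g2Rep) (e := Equiv.refl (Fin 7)) r.val ht

/-- The weights on the diagonal. -/
def dw (c : Fin 2 → Kˣ) : Fin 7 → Kˣ :=
  ![c 0, c 1 * (c 0)⁻¹, c 0 * c 0 * (c 1)⁻¹, 1, c 1 * (c 0 * c 0)⁻¹, c 0 * (c 1)⁻¹, (c 0)⁻¹]

/-- The elements of the diagonal subgroup. -/
noncomputable def tor (c : Fin 2 → Kˣ) : GG K :=
  ⟨torus chevG2 K c, factsG2.torus_mem_group c⟩

theorem tor_eq (c : Fin 2 → Kˣ) : tor c = hh7 7 (c 0 : K) * hh7 6 (c 1 : K) := by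
  refine Subtype.ext ?_
  show torus chevG2 K c = _
  have e : ∀ (r : ℕ) (t : K), ((hh7 r t : GG K) : GL chevG2.Idx K) = factsG2.hg r t := fun r t => by
    rw [hh7, Subgroup.coe_mul, coe_nn7, coe_nn7, ← Facts.hg_eq]
  have hc : c = Pi.mulSingle (0 : Fin 2) (c 0) * Pi.mulSingle (1 : Fin 2) (c 1) := by
    funext i; fin_cases i <;> simp
  have h0 : torus chevG2 K (Pi.mulSingle (0 : Fin 2) (c 0)) = factsG2.hg 7 (c 0 : K) :=
    factsG2.torus_single (F := K) (0 : Fin 2) (c 0)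
  have h1 : torus chevG2 K (Pi.mulSingle (1 : Fin 2) (c 1)) = factsG2.hg 6 (c 1 : K) :=
    factsG2.torus_single (F := K) (1 : Fin 2) (c 1)
  rw [Subgroup.coe_mul, e, e, ← h0, ← h1]
  conv_lhs => rw [hc]
  exact map_mul _ _ _

theorem psi_tor (c : Fin 2 → Kˣ) :
    (psi (tor c) : Matrix (Fin 7) (Fin 7) K) = Matrix.diagonal fun i => (dw c i : K) := by
  have h7 : (psi (hh7 7 (c 0 : K)) : Matrix (Fin 7) (Fin 7) K) =
      Matrix.diagonal fun i : Fin 7 => (c 0 : K) ^ g2Rep.wt 7 i.val := psi_hh7 ⟨7, by norm_num⟩ (c 0).ne_zero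
  have h6 : (psi (hh7 6 (c 1 : K)) : Matrix (Fin 7) (Fin 7) K) =
      Matrix.diagonal fun i : Fin 7 => (c 1 : K) ^ g2Rep.wt 6 i.val := psi_hh7 ⟨6, by norm_num⟩ (c 1).ne_zero
  rw [tor_eq, map_mul, Units.val_mul, h7, h6, Matrix.diagonal_mul_diagonal]
  congr 1
  funext i
  fin_cases i <;> simp [dw, g2Rep, g2Wt, ← pow_two] <;> field_simp

/-- The scalar by which the diagonal subgroup acts on a positive root element. -/
def chi (c : Fin 2 → Kˣ) (r : ℕ) : Kˣ :=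
  if r = 6 then dw c 1 * (dw c 2)⁻¹
  else if r = 7 then dw c 2
  else if r = 8 then dw c 1
  else if r = 9 then dw c 1 * dw c 2
  else if r = 10 then dw c 1 * dw c 2 * dw c 2
  else if r = 11 then dw c 1 * dw c 1 * dw c 2
  else 1

theorem cartan_table : ∀ r : Fin 6, ∀ k : Fin 2,
    chevG2.cartan k.val (r.val + 6) = (![![-3, 2], ![2, -1], ![-1, 1], ![1, 0], ![3, -1], ![0, 1]] : Fin 6 → Fin 2 → ℤ) r k := by
  decide +kernel

theorem torChar_eq_chi (c : Fin 2 → Kˣ) {r : ℕ} (h1 : 6 ≤ r) (h2 : r < 12) :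
    torChar chevG2 c r = chi c r := by
  obtain ⟨j, rfl⟩ : ∃ j : Fin 6, r = j.val + 6 := ⟨⟨r - 6, by omega⟩, by simp; omega⟩
  have e : torChar chevG2 c (j.val + 6) =
      c 0 ^ chevG2.cartan 0 (j.val + 6) * c 1 ^ chevG2.cartan 1 (j.val + 6) :=
    Fin.prod_univ_two (fun m : Fin 2 => c m ^ chevG2.cartan m.val (j.val + 6))
  have e0 := cartan_table j 0
  have e1 := cartan_table j 1
  simp only [Fin.val_zero, Fin.val_one] at e0 e1
  rw [e, e0, e1]
  fin_cases j <;> simp [chi, dw, pow_succ, _root_.zpow_neg, zpow_ofNat, _root_.mul_inv_rev] <;>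
    first
      | ring1
      | (ext; push_cast; field_simp)
      | (simp [mul_comm, mul_left_comm, mul_assoc])

theorem tor_conj (c : Fin 2 → Kˣ) {r : ℕ} (h1 : 6 ≤ r) (h2 : r < 12) (t : K) :
    tor c * xx r t * (tor c)⁻¹ = xx r ((chi c r : K) * t) := by
  refine Subtype.ext ?_
  show torus chevG2 K c * factsG2.xg r t * (torus chevG2 K c)⁻¹ = factsG2.xg r ((chi c r : K) * t)
  rw [factsG2.torus_conj c (show r < chevG2.nroots from h2) t, torChar_eq_chi c h1 h2]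

/-- The representatives of the fundamental reflections. -/
noncomputable def ns7 (i : Fin chevG2.rank) : GG K := nn7 (chevG2.simple i.val) 1

/-- The representative attached to a word. -/
noncomputable def nw7 (ω : List (Fin chevG2.rank)) : GG K := (ω.map ns7).prod

theorem coe_nw7 (ω : List (Fin chevG2.rank)) :
    ((nw7 ω : GG K) : GL chevG2.Idx K) = (factsG2.tsys K).nw ω := by
  induction ω with
  | nil => rfl
  | cons i ω ih =>
    show ((ns7 (K := K) i * nw7 ω : GG K) : GL chevG2.Idx K) = _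
    rw [TorusSys.nw_cons, ← ih, factsG2.tsys_nS, Subgroup.coe_mul, ns7, coe_nn7]

/-- The integer matrix of a fundamental representative. -/
def nInt (i : Fin chevG2.rank) : Matrix (Fin 7) (Fin 7) ℤ :=
  evL (Equiv.refl (Fin 7)) 1 1 (g2Rep.nL chevG2 (chevG2.simple i.val))

theorem psi_ns7 (i : Fin chevG2.rank) :
    (psi (ns7 (K := K) i) : Matrix (Fin 7) (Fin 7) K) = (nInt i).map (Int.castRingHom K) := by
  rw [ns7, ← evL_nL, nInt, Lie.evL_map, map_one, inv_one]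

/-- The short roots on the coordinates. -/
def rho : Fin 7 → Fin chevG2.nroots := (![9, 8, 7, 0, 4, 3, 2] : Fin 7 → Fin 12)

/-- The permutations of the coordinates. -/
def sig : Fin chevG2.rank → Fin 7 → Fin 7 :=
  (![![1, 0, 4, 3, 2, 6, 5], ![0, 2, 1, 3, 5, 4, 6]] : Fin 2 → Fin 7 → Fin 7)

theorem chk_nInt : ∀ (k : Fin chevG2.rank) (i j : Fin 7),
    (j ≠ sig k i → nInt k j i = 0) ∧ (nInt k (sig k i) i = 1 ∨ nInt k (sig k i) i = -1) ∧
      sig k (sig k i) = i := by decide +kernel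

theorem chk_rho : ∀ (k : Fin chevG2.rank) (i : Fin 7), i ≠ 3 →
    sig k i ≠ 3 ∧ (rho (sig k i)).val = chevG2.reflectRoot k.val (rho i).val := by decide +kernel

theorem ns7_single (k : Fin chevG2.rank) (i : Fin 7) (c : K) :
    ∃ e : K, e * e = 1 ∧ (psi (ns7 (K := K) k) : Matrix (Fin 7) (Fin 7) K) *ᵥ Pi.single i c = Pi.single (sig k i) (e * c) := by
  refine ⟨(nInt k (sig k i) i : K), ?_, ?_⟩
  · rcases (chk_nInt k i (sig k i)).2.1 with h | h <;> simp [h]
  · funext j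
    rw [Matrix.mulVec_single, psi_ns7]
    by_cases hj : j = sig k i
    · subst hj; simp [MulOpposite.smul_eq_mul_unop, mul_comm]
    · simp [Pi.single_eq_of_ne hj, (chk_nInt k i j).1 hj]

theorem ns7_mulVec (k : Fin chevG2.rank) (v : Fin 7 → K) (i : Fin 7) :
    ∃ e : K, e * e = 1 ∧ ((psi (ns7 (K := K) k) : Matrix (Fin 7) (Fin 7) K) *ᵥ v) (sig k i) = e * v i := by
  refine ⟨(nInt k (sig k i) i : K), ?_, ?_⟩
  · rcases (chk_nInt k i (sig k i)).2.1 with h | h <;> simp [h]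
  · rw [psi_ns7, Matrix.mulVec, dotProduct, Finset.sum_eq_single i]
    · simp
    · intro l _ hl
      have h0 : nInt k (sig k i) l = 0 :=
        (chk_nInt k l (sig k i)).1 fun e => hl (by rw [← (chk_nInt k i i).2.2, e, (chk_nInt k l l).2.2])
      simp [h0]
    · simp

/-- Representatives permute the coordinates as the word permutes short roots. -/
theorem nw7_single (ω : List (Fin chevG2.rank)) : ∀ i : Fin 7, i ≠ 3 → ∀ c : K, ∃ (j : Fin 7) (e : K),
    j ≠ 3 ∧ e * e = 1 ∧ (factsG2.refSys.pr ω • rho i : Fin chevG2.nroots) = rho j ∧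
      (psi (nw7 (K := K) ω) : Matrix (Fin 7) (Fin 7) K) *ᵥ Pi.single i c = Pi.single j (e * c) := by
  induction ω with
  | nil =>
    intro i hi c
    refine ⟨i, 1, hi, one_mul 1, by rw [show factsG2.refSys.pr [] = 1 from rfl, one_smul], ?_⟩
    rw [show nw7 (K := K) [] = 1 from rfl, map_one, Units.val_one, Matrix.one_mulVec, one_mul]
  | cons k ω ih =>
    intro i hi c
    obtain ⟨j, e, hj, he, hroot, hv⟩ := ih i hi c
    obtain ⟨e', he', hv'⟩ := ns7_single (K := K) k j (e * c)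
    obtain ⟨hs, hsr⟩ := chk_rho k j hj
    refine ⟨sig k j, e' * e, hs, by linear_combination (e * e) * he' + he, ?_, ?_⟩
    · rw [RefSystem.pr_cons, mul_smul, hroot]
      exact Fin.ext hsr.symm
    · have e1 : nw7 (k :: ω) = ns7 k * (nw7 ω : GG K) := rfl
      rw [e1, map_mul, Units.val_mul, ← Matrix.mulVec_mulVec, hv, hv', mul_assoc]

end Cfsg.Agent.Lie.G2Orders
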