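import Cfsg.Agent.Lib.Lie.G2Orders.Exist
import Cfsg.Agent.Lib.Lie.G2Orders.Torus
import Cfsg.Agent.Lib.Lie.SL2Hom
import Cfsg.Agent.Lib.Classical.PSU3OrdersExist

/-!
The element of order q² - q + 1 of the group of type G2, from a twisted form of the subgroup isomorphic to SL3.
-/

set_option autoImplicit false
set_option maxRecDepth 100000
set_option linter.style.haveILetI false

namespace Cfsg.Agent.Lie.G2Orders

open Cfsg.Lie Matrix
open scoped MatrixGroups

/-- A unitary matrix whose order is a multiple of q² - q + 1. -/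
theorem exists_su_dvd {F : Type*} [Field F] [Fintype F] [StarRing F] {q p f : ℕ} [Fact p.Prime] [CharP F p]
    (hstar : ∀ x : F, star x = x ^ q) (hF : Fintype.card F = q ^ 2) (hqf : q = p ^ f) :
    ∃ g : ↥(Cfsg.SU 3 F q), q ^ 2 - q + 1 ∣ orderOf g := by
  have hq := Cfsg.Agent.Small.Hermitian.q_two_le hF
  haveI : CharP (FiniteField.Extension F p 3) p :=
    charP_of_injective_algebraMap (algebraMap F (FiniteField.Extension F p 3)).injective p
  haveI := Fintype.ofFinite (FiniteField.Extension F p 3)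
  obtain ⟨N, hN⟩ : ∃ N, N = q ^ 2 - q + 1 := ⟨_, rfl⟩
  have hqle : q ≤ q ^ 2 := Nat.le_self_pow two_ne_zero q
  have hN3 : N * (q + 1) = q ^ 3 + 1 := by
    have e1 : N * (q + 1) + q * (q + 1) = (q ^ 2 + 1) * (q + 1) := by rw [← add_mul]; congr 1; omega
    nlinarith
  have hN6 : q ^ 6 - 1 = N * ((q + 1) * (q ^ 3 - 1)) := by
    rw [← mul_assoc, hN3, ← Nat.sq_sub_sq, one_pow, ← pow_mul]
  obtain ⟨g, hg⟩ := IsCyclic.exists_ofOrder_eq_natCard (α := (FiniteField.Extension F p 3)ˣ)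
  rw [Nat.card_units, FiniteField.natCard_extension, Nat.card_eq_fintype_card, hF, ← pow_mul] at hg
  have hMpos : 0 < (q + 1) * (q ^ 3 - 1) :=
    Nat.mul_pos (by omega) (Nat.sub_pos_of_lt (Nat.one_lt_pow (by norm_num) (by omega)))
  have hg' : orderOf g = N * ((q + 1) * (q ^ 3 - 1)) := by rw [hg]; exact hN6
  have ho : orderOf (g ^ ((q + 1) * (q ^ 3 - 1))) = N := by
    rw [orderOf_pow_of_dvd hMpos.ne' (hg' ▸ dvd_mul_left _ _), hg', Nat.mul_div_cancel _ hMpos]
  obtain ⟨a, hadef⟩ : ∃ a, a = ((g ^ ((q + 1) * (q ^ 3 - 1)) : (FiniteField.Extension F p 3)ˣ) : FiniteField.Extension F p 3) :=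
    ⟨_, rfl⟩
  have ha0 : a ≠ 0 := hadef ▸ Units.ne_zero _
  have hak : ∀ k, a ^ k = 1 → N ∣ k := fun k hk => by
    rw [← ho]
    exact orderOf_dvd_of_pow_eq_one (Units.ext (by rw [Units.val_pow_eq_pow_val, ← hadef, hk, Units.val_one]))
  have haN : a ^ N = 1 := by
    rw [hadef, ← Units.val_pow_eq_pow_val, orderOf_dvd_iff_pow_eq_one.mp (ho ▸ dvd_rfl), Units.val_one]
  have hq3 : a ^ (q ^ 3) = a⁻¹ := eq_inv_of_mul_eq_one_left (by rw [← pow_succ, ← hN3, pow_mul, haN, one_pow])
  have hbq : ((a ^ q)⁻¹) ^ q = (a ^ (q ^ 2))⁻¹ := by rw [inv_pow, ← pow_mul, ← sq]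
  have hcq : (a ^ (q ^ 2)) ^ q = a⁻¹ := by rw [← pow_mul, ← pow_succ, hq3]
  have hprod : a * (a ^ q)⁻¹ * a ^ (q ^ 2) = 1 := by
    have h : a ^ (q ^ 2 + 1) = a ^ q := by rw [show q ^ 2 + 1 = N + q by omega, pow_add, haN, one_mul]
    rw [mul_right_comm, ← pow_succ', h, mul_inv_cancel₀ (pow_ne_zero _ ha0)]
  have hsum := Classical.U3Ord.pairs_eq (p := p) (q := q) hqf hprod (by rw [hbq, hcq, inv_inv]; ring)
  obtain ⟨e, he⟩ := Classical.U3Ord.mem_range_algebraMap (F := F) (a + (a ^ q)⁻¹ + a ^ (q ^ 2)) (by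
    rw [hF, sq, pow_mul]
    have e2 : (a + (a ^ q)⁻¹ + a ^ (q ^ 2)) ^ q = a ^ q + (a ^ (q ^ 2))⁻¹ + a⁻¹ := by
      rw [hqf, add_pow_char_pow, add_pow_char_pow, ← hqf, hbq, hcq]
    rw [← sq, e2, hqf, add_pow_char_pow, add_pow_char_pow, ← hqf, inv_pow, hcq, inv_inv, inv_pow, ← pow_mul, ← sq]
    ring)
  obtain ⟨x, hx⟩ := Classical.U3Ord.exists_eigen_elt (p := p) hstar hF a (a ^ q)⁻¹ (a ^ (q ^ 2)) hprod e he
    (by rw [map_pow, he, hsum])
  refine ⟨x, hN ▸ hak _ ?_⟩
  have h1 : x.1.1 ^ orderOf x = (1 : F) • (1 : Matrix (Fin 3) (Fin 3) F) := by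
    rw [one_smul]
    exact congrArg (fun y : ↥(Cfsg.SU 3 F q) => y.1.1) (pow_orderOf_eq_one x)
  rw [(hx _ 1 h1).1, map_one]

variable {E : Type*} [Field E]

/-- The homomorphism of a root pair. -/
noncomputable def phiR (r : ℕ) (hr : r < chevG2.nroots) : SpecialLinearGroup (Fin 2) E →* GG E :=
  (Classical.choose (factsG2.exists_sl2Hom (F := E) r hr)).codRestrict (chevG2.group E) fun M => by
    have h : Classical.choose (factsG2.exists_sl2Hom (F := E) r hr) M ∈
        (Classical.choose (factsG2.exists_sl2Hom (F := E) r hr)).range := ⟨M, rfl⟩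
    rw [(Classical.choose_spec (factsG2.exists_sl2Hom (F := E) r hr)).1] at h
    refine (Subgroup.closure_le _).2 ?_ h
    rintro g (⟨t, rfl⟩ | ⟨t, rfl⟩) <;> exact factsG2.xg_mem_group _ _

theorem phiR_up (r : ℕ) (hr : r < chevG2.nroots) (t : E) : phiR r hr (upS t) = xx r t :=
  Subtype.ext ((Classical.choose_spec (factsG2.exists_sl2Hom (F := E) r hr)).2 t).1

theorem phiR_lo (r : ℕ) (hr : r < chevG2.nroots) (t : E) : phiR r hr (loS t) = xx (chevG2.neg r) t :=
  Subtype.ext ((Classical.choose_spec (factsG2.exists_sl2Hom (F := E) r hr)).2 t).2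

theorem transvection_two {i j : Fin 2} (h : i ≠ j) (c : E) :
    SpecialLinearGroup.transvection h c = upS c ∨ SpecialLinearGroup.transvection h c = loS c := by
  fin_cases i <;> fin_cases j <;> first | exact absurd rfl h | skip
  · left
    refine Subtype.ext ?_
    show ((SpecialLinearGroup.transvection h c : SpecialLinearGroup (Fin 2) E) : Matrix (Fin 2) (Fin 2) E) = !![1, c; 0, 1]
    rw [SpecialLinearGroup.transvection_coe]
    ext a b; fin_cases a <;> fin_cases b <;> simp [Matrix.one_apply, Matrix.single_apply]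
  · right
    refine Subtype.ext ?_
    show ((SpecialLinearGroup.transvection h c : SpecialLinearGroup (Fin 2) E) : Matrix (Fin 2) (Fin 2) E) = !![1, 0; c, 1]
    rw [SpecialLinearGroup.transvection_coe]
    ext a b; fin_cases a <;> fin_cases b <;> simp [Matrix.one_apply, Matrix.single_apply]

theorem sl2_induction {P : SpecialLinearGroup (Fin 2) E → Prop} (one : P 1) (mul : ∀ a b, P a → P b → P (a * b))
    (inv : ∀ a, P a → P a⁻¹) (up : ∀ t, P (upS t)) (lo : ∀ t, P (loS t)) (M : SpecialLinearGroup (Fin 2) E) : P M := by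
  have hM : M ∈ Subgroup.closure {g : SpecialLinearGroup (Fin 2) E |
      ∃ (i j : Fin 2) (h : i ≠ j) (c : E), g = SpecialLinearGroup.transvection h c} := by
    rw [Cfsg.Agent.Classical.sl_closure_transvections]; trivial
  induction hM using Subgroup.closure_induction with
  | mem g hg =>
    obtain ⟨i, j, h, c, rfl⟩ := hg
    rcases transvection_two h c with e | e <;> rw [e]
    · exact up c
    · exact lo c
  | one => exact one
  | mul a b _ _ ha hb => exact mul a b ha hb
  | inv a _ ha => exact inv a ha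

theorem phiR_baseG {σ : E →+* E} (r : ℕ) (hr : r < chevG2.nroots) (M : SpecialLinearGroup (Fin 2) E) :
    baseG σ (phiR r hr M) = phiR r hr (SpecialLinearGroup.map σ M) := by
  induction M using sl2_induction with
  | one => simp
  | mul a b ha hb => rw [map_mul, map_mul, map_mul, map_mul, ha, hb]
  | inv a ha => rw [map_inv, map_inv, map_inv, map_inv, ha]
  | up t =>
    have e : SpecialLinearGroup.map σ (upS t) = upS (σ t) := Subtype.ext (by
      show (upS t : Matrix (Fin 2) (Fin 2) E).map σ = _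
      ext a b; fin_cases a <;> fin_cases b <;> simp [upS])
    rw [e, phiR_up, phiR_up, baseG_xx]
  | lo t =>
    have e : SpecialLinearGroup.map σ (loS t) = loS (σ t) := Subtype.ext (by
      show (loS t : Matrix (Fin 2) (Fin 2) E).map σ = _
      ext a b; fin_cases a <;> fin_cases b <;> simp [loS])
    rw [e, phiR_lo, phiR_lo, baseG_xx]

theorem phiR_commute (M N : SpecialLinearGroup (Fin 2) E) :
    Commute (phiR 10 (by decide) M) (phiR 8 (by decide) N) := by
  have key : ∀ (r s : ℕ) (t u : E), r < chevG2.nroots → s < chevG2.nroots → s ≠ r → s ≠ chevG2.neg r →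
      chevG2.commTerms r s = [] → Commute (xx r t : GG E) (xx s u) := by
    intro r s t u hr hs h1 h2 h3
    have hc := CommSys.x_comm (factsG2.tsys E).toCommSys r s hr hs h1 h2 t u
    rw [ChevalleyDatum.commWord, h3, List.map_nil, List.map_nil, List.prod_nil, mul_one] at hc
    exact Subtype.ext hc.symm
  induction M using sl2_induction with
  | one => rw [map_one]; exact Commute.one_left _
  | mul a b ha hb => rw [map_mul]; exact ha.mul_left hb
  | inv a ha => rw [map_inv]; exact ha.inv_left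
  | up t =>
    rw [phiR_up]
    induction N using sl2_induction with
    | one => rw [map_one]; exact Commute.one_right _
    | mul a b ha hb => rw [map_mul]; exact ha.mul_right hb
    | inv a ha => rw [map_inv]; exact ha.inv_right
    | up u => rw [phiR_up]; exact key _ _ _ _ (by decide) (by decide) (by decide) (by decide +kernel) (by decide +kernel)
    | lo u => rw [phiR_lo]; exact key _ _ _ _ (by decide) (by decide +kernel) (by decide +kernel) (by decide +kernel) (by decide +kernel)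
  | lo t =>
    rw [phiR_lo]
    induction N using sl2_induction with
    | one => rw [map_one]; exact Commute.one_right _
    | mul a b ha hb => rw [map_mul]; exact ha.mul_right hb
    | inv a ha => rw [map_inv]; exact ha.inv_right
    | up u => rw [phiR_up]; exact key _ _ _ _ (by decide +kernel) (by decide) (by decide +kernel) (by decide +kernel) (by decide +kernel)
    | lo u => rw [phiR_lo]; exact key _ _ _ _ (by decide +kernel) (by decide +kernel) (by decide +kernel) (by decide +kernel) (by decide +kernel)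

/-- The product of the two commuting representatives. -/
def nList : List Tm :=
  [⟨6, 0, 0, 2, 1⟩, ⟨5, 1, 0, 2, -1⟩, ⟨4, 2, 0, 0, 1⟩, ⟨3, 3, 0, 0, -1⟩, ⟨2, 4, 0, 0, 1⟩, ⟨1, 5, 2, 0, -1⟩,
    ⟨0, 6, 2, 0, 1⟩]

theorem chk_nList : eqL (SRep.reduceL (mulL 7 (g2Rep.nL chevG2 10) (g2Rep.nL chevG2 8))) nList = true := by
  decide +kernel

/-- The diagonal block from the first coordinates. -/
def cL (t : E) : Matrix (Fin 3) (Fin 3) E := Matrix.diagonal ![t⁻¹ ^ 2, 1, -(t ^ 2)]

/-- The diagonal block to the first coordinates. -/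
def cR (t : E) : Matrix (Fin 3) (Fin 3) E := Matrix.diagonal ![t ^ 2, 1, -(t⁻¹ ^ 2)]

/-- The antidiagonal matrix in blocks. -/
def nBlk (t : E) : Matrix (Fin 3 ⊕ (Fin 3 ⊕ Fin 1)) (Fin 3 ⊕ (Fin 3 ⊕ Fin 1)) E :=
  Matrix.fromBlocks 0 (Matrix.fromCols (cR t) 0) (Matrix.fromRows (cL t) 0) (Matrix.fromBlocks 0 0 0 (-1))

theorem nBlk_eq (t : E) : evL (Equiv.refl (Fin 7)) t t⁻¹ nList = Matrix.reindex G2Seven.blk G2Seven.blk (nBlk t) := by
  apply (Matrix.reindex G2Seven.blk G2Seven.blk).symm.injective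
  rw [Equiv.symm_apply_apply]
  ext (i | i | i) (j | j | j) <;> fin_cases i <;> fin_cases j <;>
    simp [nList, nBlk, cL, cR, G2Seven.blk, Tm.ev, matUnit_apply]

theorem twist_blocks (t : E) (P P' A A' : Matrix (Fin 3) (Fin 3) E)
    (h1 : cL t * P = G2Seven.D3 E * (A'ᵀ * G2Seven.D3 E) * cL t)
    (h2 : cR t * (G2Seven.D3 E * (P'ᵀ * G2Seven.D3 E)) = A * cR t) :
    nBlk t * Matrix.fromBlocks P 0 0 (Matrix.fromBlocks (G2Seven.D3 E * (P'ᵀ * G2Seven.D3 E)) 0 0 1) =
      Matrix.fromBlocks A 0 0 (Matrix.fromBlocks (G2Seven.D3 E * (A'ᵀ * G2Seven.D3 E)) 0 0 1) * nBlk t := by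
  simp only [nBlk, Matrix.fromBlocks_multiply, Matrix.fromCols_mul_fromBlocks, Matrix.fromBlocks_mul_fromRows,
    Matrix.mul_fromCols, Matrix.fromRows_mul, Matrix.zero_mul, Matrix.mul_zero, add_zero, zero_add, h1, h2,
    Matrix.mul_one, Matrix.one_mul]

variable [Fintype E] {q : ℕ} {σ : E ≃+* E}

theorem exists_twist_order (hσ : Classical.IsUSigma q σ) (h3 : 3 ≤ Fintype.card E)
    (A0 : SpecialLinearGroup (Fin 3) E) (hA0 : ((A0.1).map σ)ᵀ * A0.1 = 1) :
    ∃ X : GG E, gmap σ.toRingHom (X : GL chevG2.Idx E) = (X : GL chevG2.Idx E) ∧ orderOf X = orderOf A0 := by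
  have h01 := exists_ne01' h3
  obtain ⟨τ, hτ0, hτ⟩ := hσ.exists_skew
  replace hτ : σ τ = -τ := eq_neg_of_add_eq_zero_right hτ
  obtain ⟨e, he0, he⟩ := hσ.norm_surjective (t := -1) (neg_ne_zero.2 one_ne_zero) (by simp)
  have he' : σ e = -e⁻¹ := by field_simp; linear_combination he
  obtain ⟨x, hx⟩ : ∃ x, σ x ≠ x := by
    by_contra h
    push Not at h
    exact hσ.ne_refl (RingEquiv.ext h)
  obtain ⟨l, hl0, hl⟩ := hσ.norm_surjective (t := (τ * (σ x - x))⁻¹) (inv_ne_zero (mul_ne_zero hτ0 (sub_ne_zero.2 hx)))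
    (by rw [map_inv₀, map_mul, map_sub, hσ.involutive, hτ]; ring)
  have hdetM : (!![l * x, -(τ * σ (l * x)); l, -(τ * σ l)] : Matrix (Fin 2) (Fin 2) E).det = 1 := by
    rw [Matrix.det_fin_two]
    simp only [map_mul]
    simp
    have hne : τ * (σ x - x) ≠ 0 := mul_ne_zero hτ0 (sub_ne_zero.2 hx)
    have h := hl
    field_simp at h
    linear_combination h
  let M : SpecialLinearGroup (Fin 2) E := ⟨_, hdetM⟩
  obtain ⟨w, hwdef⟩ : ∃ w : SpecialLinearGroup (Fin 2) E, w = upS τ * loS (-τ⁻¹) * upS τ := ⟨_, rfl⟩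
  have hMw : SpecialLinearGroup.map σ.toRingHom M = M * w := by
    rw [hwdef]
    refine Subtype.ext ?_
    show (!![l * x, -(τ * σ (l * x)); l, -(τ * σ l)] : Matrix (Fin 2) (Fin 2) E).map σ =
      !![l * x, -(τ * σ (l * x)); l, -(τ * σ l)] * (!![1, τ; 0, 1] * !![1, 0; -τ⁻¹, 1] * !![1, τ; 0, 1])
    ext a b; fin_cases a <;> fin_cases b <;>
      simp [Matrix.mul_apply, Fin.sum_univ_two, hσ.involutive, hτ] <;> field_simp <;> ring
  have hw : ∀ r hr, phiR (E := E) r hr w = nn7 r τ := fun r hr => by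
    rw [hwdef]
    rw [map_mul, map_mul, phiR_up, phiR_lo]; rfl
  have h10 : 10 < chevG2.nroots := by decide
  have h8 : 8 < chevG2.nroots := by decide
  let g : GG E := phiR 10 h10 M * phiR 8 h8 M
  let n : GG E := nn7 10 τ * nn7 8 τ
  have hg : baseG σ.toRingHom g = g * n := by
    show baseG σ.toRingHom (phiR 10 h10 M * phiR 8 h8 M) = _
    rw [map_mul, phiR_baseG, phiR_baseG, hMw, map_mul, map_mul, hw, hw]
    show _ = phiR 10 h10 M * phiR 8 h8 M * (nn7 10 τ * nn7 8 τ)
    have hc : Commute (nn7 10 τ) (phiR (E := E) 8 h8 M) := hw 10 (by decide) ▸ phiR_commute w M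
    rw [show phiR 10 h10 M * nn7 10 τ * (phiR 8 h8 M * nn7 8 τ) =
      phiR 10 h10 M * (nn7 10 τ * phiR 8 h8 M) * nn7 8 τ by group, hc.eq]
    group
  have hn : mx n = Matrix.reindex G2Seven.blk G2Seven.blk (nBlk τ) := by
    rw [← nBlk_eq, mx_mul]
    show (psi (nn7 10 τ) : Matrix (Fin 7) (Fin 7) E) * (psi (nn7 8 τ) : Matrix (Fin 7) (Fin 7) E) = _
    rw [← evL_nL, ← evL_nL, ← evL_mulL (Equiv.refl (Fin 7)) (by norm_num)]
    exact (SRep.evL_reduceL (S := g2Rep) (e := Equiv.refl (Fin 7)) (F := E) (mul_inv_cancel₀ hτ0) _).symm.trans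
      (eqL_sound (Equiv.refl (Fin 7)) chk_nList τ τ⁻¹)
  -- the diagonal conjugation
  let s : Fin 3 → E := ![τ, e, τ⁻¹]
  let s' : Fin 3 → E := ![τ⁻¹, e⁻¹, τ]
  have hss : Matrix.diagonal s * Matrix.diagonal s' = 1 := by
    rw [Matrix.diagonal_mul_diagonal, ← Matrix.diagonal_one]
    congr 1; funext i; fin_cases i <;> simp [s, s', hτ0, he0]
  have hss' : Matrix.diagonal s' * Matrix.diagonal s = 1 := by
    rw [Matrix.diagonal_mul_diagonal, ← Matrix.diagonal_one]
    congr 1; funext i; fin_cases i <;> simp [s, s', hτ0, he0]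
  let C : SpecialLinearGroup (Fin 3) E →* SpecialLinearGroup (Fin 3) E :=
    { toFun := fun Y => ⟨Matrix.diagonal s * Y.1 * Matrix.diagonal s', by
        rw [Matrix.det_mul, Matrix.det_mul, Y.2, mul_one, ← Matrix.det_mul, hss, Matrix.det_one]⟩
      map_one' := Subtype.ext (by
        show Matrix.diagonal s * 1 * Matrix.diagonal s' = 1
        rw [Matrix.mul_one, hss])
      map_mul' := fun Y Z => Subtype.ext (by
        show Matrix.diagonal s * (Y.1 * Z.1) * Matrix.diagonal s' =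
          Matrix.diagonal s * Y.1 * Matrix.diagonal s' * (Matrix.diagonal s * Z.1 * Matrix.diagonal s')
        simp only [Matrix.mul_assoc]
        rw [← Matrix.mul_assoc (Matrix.diagonal s') (Matrix.diagonal s), hss', Matrix.one_mul]) }
  have hCinj : Function.Injective C := fun Y Z h => Subtype.ext (by
    have h' : Matrix.diagonal s * Y.1 * Matrix.diagonal s' = Matrix.diagonal s * Z.1 * Matrix.diagonal s' :=
      congrArg Subtype.val h
    have h'' := congrArg (fun T => Matrix.diagonal s' * T * Matrix.diagonal s) h'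
    simp only [← Matrix.mul_assoc, hss', Matrix.one_mul] at h''
    simpa only [Matrix.mul_assoc, hss', Matrix.mul_one] using h'')
  let A := C A0
  let P := SpecialLinearGroup.map σ.toRingHom A
  have hA0inv : (A0⁻¹).1 = (A0.1.map σ)ᵀ := by
    have h : (A0⁻¹).1 * A0.1 = 1 := congrArg Subtype.val (inv_mul_cancel A0)
    calc (A0⁻¹).1 = (A0.1.map σ)ᵀ * A0.1 * (A0⁻¹).1 := by rw [hA0, Matrix.one_mul]
      _ = (A0.1.map σ)ᵀ * (A0.1 * (A0⁻¹).1) := Matrix.mul_assoc _ _ _
      _ = (A0.1.map σ)ᵀ := by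
        rw [show A0.1 * (A0⁻¹).1 = 1 from congrArg Subtype.val (mul_inv_cancel A0), Matrix.mul_one]
  have eA : A.1 = Matrix.diagonal s * A0.1 * Matrix.diagonal s' := rfl
  have eA' : (A⁻¹).1 = Matrix.diagonal s * (A0.1.map σ)ᵀ * Matrix.diagonal s' := by
    rw [show A⁻¹ = C A0⁻¹ from (map_inv C A0).symm, ← hA0inv]; rfl
  have eP : P.1 = A.1.map σ := rfl
  have eP' : (P⁻¹).1 = (A⁻¹).1.map σ := by
    rw [show P⁻¹ = SpecialLinearGroup.map σ.toRingHom A⁻¹ from (map_inv (SpecialLinearGroup.map σ.toRingHom) A).symm]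
    rfl
  have key : mx n * (G2Seven.emb A).map σ = G2Seven.emb A * mx n := by
    have hmap : (G2Seven.emb A).map σ = G2Seven.emb P := by
      rw [G2Seven.emb, G2Seven.emb, Matrix.reindex_apply, Matrix.reindex_apply, ← Matrix.submatrix_map]
      congr 1
      have hD : (G2Seven.D3 E).map σ = G2Seven.D3 E := by
        ext a b; fin_cases a <;> fin_cases b <;> simp [G2Seven.D3]
      rw [Matrix.fromBlocks_map, Matrix.fromBlocks_map, eP, G2Seven.dual, G2Seven.dual, Matrix.map_mul,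
        Matrix.map_mul, hD, Matrix.transpose_map, show ((A⁻¹ : SpecialLinearGroup (Fin 3) E) :
          Matrix (Fin 3) (Fin 3) E).map σ = ((P⁻¹ : SpecialLinearGroup (Fin 3) E) : Matrix (Fin 3) (Fin 3) E) from eP'.symm]
      simp
    rw [hmap, hn, G2Seven.emb, G2Seven.emb]
    simp only [Matrix.reindex_apply, Matrix.submatrix_mul_equiv]
    congr 1
    refine twist_blocks τ P.1 (P⁻¹).1 A.1 (A⁻¹).1 ?_ ?_
    · rw [eP, eA', eA]
      ext i j
      fin_cases i <;> fin_cases j <;>
        simp [cL, G2Seven.D3, s, s', hτ, he', map_inv₀, Matrix.mul_apply, Fin.sum_univ_three] <;>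
        field_simp <;> ring
    · rw [eP', eA', eA]
      ext i j
      fin_cases i <;> fin_cases j <;>
        simp [cR, G2Seven.D3, s, s', hτ, he', hσ.involutive, map_inv₀, Matrix.mul_apply, Fin.sum_univ_three] <;>
        field_simp <;> ring
  have hb : baseG σ.toRingHom (sl3 A) = n⁻¹ * sl3 A * n := by
    refine mx_inj h01 ?_
    rw [show mx (baseG σ.toRingHom (sl3 A)) = (mx (sl3 A)).map σ from psi_baseG σ.toRingHom (sl3 A), mx_sl3,
      mx_mul, mx_mul, mx_sl3, Matrix.mul_assoc, ← key, ← Matrix.mul_assoc, mx_inv_mul, Matrix.one_mul]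
  refine ⟨g * sl3 A * g⁻¹, ?_, ?_⟩
  · show ((baseG σ.toRingHom (g * sl3 A * g⁻¹) : GG E) : GL chevG2.Idx E) = _
    rw [map_mul, map_mul, map_inv, hg, hb]
    congr 1
    group
  · have e1 : g * sl3 A * g⁻¹ = MulAut.conj g (sl3Hom h01 (C A0)) := rfl
    rw [e1, MulEquiv.orderOf_eq, orderOf_injective _ (sl3Hom_injective h01), orderOf_injective C hCinj]

/-- Existence. -/
theorem exists_minus {F : Type*} [Field F] [Fintype F] {p a : ℕ} (hp : p.Prime) (ha : 1 ≤ a)
    (hF : Fintype.card F = p ^ a) : ∃ g : GG F, orderOf g = (p ^ a) ^ 2 - p ^ a + 1 := by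
  haveI := Fact.mk hp
  haveI : CharP F p := charP_of_card_eq_prime_pow hF
  let E := FiniteField.Extension F p 2
  haveI : Fintype E := Fintype.ofFinite E
  haveI : CharP E p := charP_of_injective_algebraMap (algebraMap F E).injective p
  have hE : Fintype.card E = (p ^ a) ^ 2 := by
    rw [← Nat.card_eq_fintype_card, FiniteField.natCard_extension, Nat.card_eq_fintype_card, hF]
  have h3 : 3 ≤ Fintype.card E := by
    have : 2 ≤ p ^ a := hF ▸ Fintype.one_lt_card
    rw [hE]; nlinarith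
  obtain ⟨p', e, σ, -, -, -, -, hσ⟩ := Classical.exists_usigma hE
  letI : StarRing E := Cfsg.Agent.Small.Hermitian.starRingOfInvolution (σ : E →+* E) hσ.involutive
  have hstar : ∀ x : E, star x = x ^ p ^ a := hσ.apply_eq
  obtain ⟨A, hA⟩ := exists_su_dvd (p := p) (f := a) hstar hE rfl
  obtain ⟨k, hk⟩ := hA
  have hk0 : k ≠ 0 := by rintro rfl; exact (orderOf_pos A).ne' (by rw [hk, mul_zero])
  have hAk : orderOf (A ^ k) = (p ^ a) ^ 2 - p ^ a + 1 := by
    rw [orderOf_pow_of_dvd hk0 (hk ▸ dvd_mul_left _ _), hk, Nat.mul_div_cancel _ (Nat.pos_of_ne_zero hk0)]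
  have hu := (Cfsg.Agent.Small.Unitary.mem_SU_iff hstar (A ^ k).1).1 (A ^ k).2
  obtain ⟨X, hX, hord⟩ := exists_twist_order hσ h3 (A ^ k).1 hu
  obtain ⟨g0, hg0, e0⟩ := factsG2.fixed_mem_map kerCertG2 (f := algebraMap F E) (fun t ht => by
    letI : StarRing F := Cfsg.Agent.Small.Hermitian.starRingOfInvolution (RingHom.id F) fun _ => rfl
    exact Classical.U3Ord.mem_range_algebraMap t (by rw [hF, ← hσ.apply_eq, ht])) X.2 hX
  refine ⟨⟨g0, hg0⟩, ?_⟩
  have e1 : baseG (algebraMap F E) ⟨g0, hg0⟩ = X := Subtype.ext e0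
  rw [← orderOf_injective _ (baseG_injective (algebraMap F E)) ⟨g0, hg0⟩, e1, hord, Subgroup.orderOf_coe, hAk]

end Cfsg.Agent.Lie.G2Orders
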