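import Cfsg.Agent.Lib.Lie.G2Orders.Exist

/-!
Small words of prescribed order in the group of type G2.
-/

set_option autoImplicit false
set_option maxRecDepth 100000
set_option linter.style.haveILetI false

namespace Cfsg.Agent.Lie.G2Orders

open Cfsg.Lie Matrix
open scoped MatrixGroups

variable {F : Type*} [Field F]

/-! ### Small words -/

/-- A root element with value one over a ring. -/
def mR (R : Type*) [CommRing R] (r : ℕ) : Matrix (Fin 7) (Fin 7) R :=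
  1 + evL (Equiv.refl (Fin 7)) 1 1 ((g2Rep.ent r).map fun m => ⟨m.row, m.col, m.a, 0, m.c⟩)

theorem mR_map {R : Type*} [CommRing R] (f : R →+* F) (r : ℕ) : (mR R r).map f = mx (xx r (1 : F)) := by
  rw [mx, psi_xx, mR, m7, Matrix.map_add f (map_add f), Matrix.map_one f (map_zero f) (map_one f), Lie.evL_map,
    map_one]

theorem chk_two : (mR (ZMod 2) 7 * mR (ZMod 2) 6) ^ 8 = 1 ∧ (mR (ZMod 2) 7 * mR (ZMod 2) 6) ^ 4 ≠ 1 ∧
    (mR (ZMod 2) 0 * mR (ZMod 2) 2 * mR (ZMod 2) 9) ^ 12 = 1 ∧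
    (mR (ZMod 2) 0 * mR (ZMod 2) 2 * mR (ZMod 2) 9) ^ 4 ≠ 1 ∧
    (mR (ZMod 2) 0 * mR (ZMod 2) 2 * mR (ZMod 2) 9) ^ 6 ≠ 1 := by decide +kernel

theorem chk_three : (mR (ZMod 3) 7 * mR (ZMod 3) 6) ^ 9 = 1 ∧ (mR (ZMod 3) 7 * mR (ZMod 3) 6) ^ 3 ≠ 1 := by
  decide +kernel

theorem chk_five : (mR (ZMod 5) 7 * mR (ZMod 5) 6) ^ 25 = 1 ∧ (mR (ZMod 5) 7 * mR (ZMod 5) 6) ^ 5 ≠ 1 := by
  decide +kernel

theorem orderOf_word {R : Type*} [CommRing R] (f : R →+* F) (hf : Function.Injective f)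
    (h : ∃ a : F, a ≠ 0 ∧ a ≠ 1) (g : GG F) (M : Matrix (Fin 7) (Fin 7) R) (e : mx g = M.map f) :
    orderOf g = orderOf M := by
  rw [← orderOf_injective psi (psi_injective h), ← orderOf_units]
  show orderOf (mx g) = _
  rw [e]
  exact orderOf_injective (f.mapMatrix : Matrix (Fin 7) (Fin 7) R →+* Matrix (Fin 7) (Fin 7) F).toMonoidHom
    (fun A B hAB => Matrix.map_injective hf (show A.map f = B.map f from hAB)) M

theorem exists_eight_twelve [Fintype F] [CharP F 2] (h3 : 3 ≤ Fintype.card F) :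
    (∃ g : GG F, orderOf g = 8) ∧ ∃ g : GG F, orderOf g = 12 := by
  let f : ZMod 2 →+* F := ZMod.castHom (dvd_refl 2) F
  have hf : Function.Injective f := f.injective
  have h := exists_ne01' h3
  haveI := Fact.mk Nat.prime_two
  refine ⟨⟨xx 7 1 * xx 6 1, ?_⟩, ⟨xx 0 1 * xx 2 1 * xx 9 1, ?_⟩⟩
  · rw [orderOf_word f hf h _ (mR (ZMod 2) 7 * mR (ZMod 2) 6)
      (by rw [mx_mul, ← mR_map f, ← mR_map f, Matrix.map_mul])]
    exact orderOf_eq_prime_pow (p := 2) (n := 2) chk_two.2.1 chk_two.1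
  · rw [orderOf_word f hf h _ (mR (ZMod 2) 0 * mR (ZMod 2) 2 * mR (ZMod 2) 9)
      (by rw [mx_mul, mx_mul, ← mR_map f, ← mR_map f, ← mR_map f, Matrix.map_mul, Matrix.map_mul])]
    have hd := orderOf_dvd_of_pow_eq_one chk_two.2.2.1
    have h4 : ¬ orderOf (mR (ZMod 2) 0 * mR (ZMod 2) 2 * mR (ZMod 2) 9) ∣ 4 :=
      fun hh => chk_two.2.2.2.1 (orderOf_dvd_iff_pow_eq_one.1 hh)
    have h6 : ¬ orderOf (mR (ZMod 2) 0 * mR (ZMod 2) 2 * mR (ZMod 2) 9) ∣ 6 :=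
      fun hh => chk_two.2.2.2.2 (orderOf_dvd_iff_pow_eq_one.1 hh)
    generalize orderOf (mR (ZMod 2) 0 * mR (ZMod 2) 2 * mR (ZMod 2) 9) = n at hd h4 h6
    have := Nat.le_of_dvd (by norm_num) hd
    interval_cases n <;> omega

theorem exists_sq [Fintype F] {p : ℕ} [CharP F p] (hp : p = 3 ∨ p = 5) (h3 : 3 ≤ Fintype.card F) :
    ∃ g : GG F, orderOf g = p ^ 2 := by
  have h := exists_ne01' h3
  refine ⟨xx 7 1 * xx 6 1, ?_⟩
  rcases hp with rfl | rfl
  · haveI := Fact.mk Nat.prime_three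
    rw [orderOf_word (ZMod.castHom (dvd_refl 3) F) (RingHom.injective _) h _ (mR (ZMod 3) 7 * mR (ZMod 3) 6)
      (by rw [mx_mul, ← mR_map (ZMod.castHom (dvd_refl _) F), ← mR_map (ZMod.castHom (dvd_refl _) F), Matrix.map_mul])]
    exact orderOf_eq_prime_pow (p := 3) (n := 1) (by simpa using chk_three.2) chk_three.1
  · haveI : Fact (Nat.Prime 5) := ⟨by norm_num⟩
    rw [orderOf_word (ZMod.castHom (dvd_refl 5) F) (RingHom.injective _) h _ (mR (ZMod 5) 7 * mR (ZMod 5) 6)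
      (by rw [mx_mul, ← mR_map (ZMod.castHom (dvd_refl _) F), ← mR_map (ZMod.castHom (dvd_refl _) F), Matrix.map_mul])]
    exact orderOf_eq_prime_pow (p := 5) (n := 1) (by simpa using chk_five.2) chk_five.1

end Cfsg.Agent.Lie.G2Orders
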