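import Cfsg.Agent.Lib.Lie.G2Orders.Bound
import Cfsg.Agent.Lib.Lie.G2Orders.Twisted
import Cfsg.Agent.Lib.Lie.G2Orders.Words

/-!
The element orders of the group of type G2 maximal under divisibility.
-/

set_option autoImplicit false

namespace Cfsg.Agent.Lie.G2Orders

/-- The short list. -/
def InList (p q N : ℕ) : Prop :=
  N = p * (q - 1) ∨ N = p * (q + 1) ∨ N = q ^ 2 - 1 ∨ N = q ^ 2 + q + 1 ∨ N = q ^ 2 - q + 1 ∨
    (p = 2 ∧ (N = 8 ∨ N = 12)) ∨ ((p = 3 ∨ p = 5) ∧ N = p ^ 2)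

theorem exists_of_inList {F : Type*} [Field F] [Fintype F] {p a : ℕ} (hp : p.Prime) (ha : 1 ≤ a)
    (hF : Fintype.card F = p ^ a) (h3 : 3 ≤ Fintype.card F) {N : ℕ} (hN : InList p (p ^ a) N) :
    ∃ g : GG F, orderOf g = N := by
  haveI := Fact.mk hp
  haveI : CharP F p := charP_of_card_eq_prime_pow hF
  obtain ⟨h1, h2, h4, h5⟩ := exists_orders hp ha hF h3
  rcases hN with rfl | rfl | rfl | rfl | rfl | ⟨rfl, hh⟩ | ⟨hh, rfl⟩
  · exact h1
  · exact h2
  · exact h4
  · exact h5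
  · exact exists_minus hp ha hF
  · obtain ⟨e8, e12⟩ := exists_eight_twelve (F := F) h3
    rcases hh with rfl | rfl
    · exact e8
    · exact e12
  · exact exists_sq hh h3

theorem antichain {p q n N : ℕ} (hp : p.Prime) (hp2 : p ≠ 2) (hq : p ∣ q) (h5 : 5 ≤ q)
    (hn : InList p q n) (hN : InList p q N) (h : n ∣ N) : n = N := by
  have hp3 : 3 ≤ p := by have := hp.two_le; omega
  have hpq : p ≤ q := Nat.le_of_dvd (by omega) hq
  have hq2 : q * q = q ^ 2 := (pow_two q).symm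
  have h5q : 5 * q ≤ q * q := Nat.mul_le_mul_right q h5
  have c1 : ¬ p ∣ q - 1 := fun hd => by
    have := Nat.dvd_sub hq hd
    rw [show q - (q - 1) = 1 by omega] at this
    exact hp.not_dvd_one this
  have c2 : ¬ p ∣ q + 1 := fun hd => hp.not_dvd_one ((Nat.dvd_add_right hq).1 hd)
  have hq' : p ∣ q ^ 2 := hq.trans (dvd_pow_self q two_ne_zero)
  have cC : ¬ p ∣ q ^ 2 - 1 := fun hd => by
    have := Nat.dvd_sub hq' hd
    rw [show q ^ 2 - (q ^ 2 - 1) = 1 by omega] at this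
    exact hp.not_dvd_one this
  have cD : ¬ p ∣ q ^ 2 + q + 1 := fun hd => hp.not_dvd_one ((Nat.dvd_add_right (dvd_add hq' hq)).1 hd)
  have cE : ¬ p ∣ q ^ 2 - q + 1 := fun hd => hp.not_dvd_one ((Nat.dvd_add_right (Nat.dvd_sub hq' hq)).1 hd)
  have big : ∀ {x : ℕ}, ¬ p ∣ x → q + 1 < x → (x ∣ p * (q - 1) → False) ∧ (x ∣ p * (q + 1) → False) ∧
      (x ∣ p ^ 2 → False) := by
    intro x hx hlt
    have hc : Nat.Coprime x p := Nat.coprime_comm.1 ((Nat.Prime.coprime_iff_not_dvd hp).2 hx)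
    refine ⟨fun h => ?_, fun h => ?_, fun h => ?_⟩
    · have := Nat.le_of_dvd (by omega) (hc.dvd_of_dvd_mul_left h); omega
    · have := Nat.le_of_dvd (by omega) (hc.dvd_of_dvd_mul_left h); omega
    · rw [pow_two] at h
      have := Nat.le_of_dvd (by omega) (hc.dvd_of_dvd_mul_left h); omega
  have hpp : 0 < p := hp.pos
  rcases hn with rfl | rfl | rfl | rfl | rfl | ⟨e, -⟩ | ⟨-, rfl⟩
  pick_goal 6
  · exact absurd e hp2
  all_goals rcases hN with rfl | rfl | rfl | rfl | rfl | ⟨e, -⟩ | ⟨-, rfl⟩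
  all_goals first
    | rfl
    | exact absurd e hp2
    | exact absurd (dvd_trans (dvd_mul_right p _) h) cC
    | exact absurd (dvd_trans (dvd_mul_right p _) h) cD
    | exact absurd (dvd_trans (dvd_mul_right p _) h) cE
    | exact absurd (dvd_trans (dvd_pow_self p two_ne_zero) h) cC
    | exact absurd (dvd_trans (dvd_pow_self p two_ne_zero) h) cD
    | exact absurd (dvd_trans (dvd_pow_self p two_ne_zero) h) cE
    | exact ((big cC (by omega)).1 h).elim
    | exact ((big cC (by omega)).2.1 h).elim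
    | exact ((big cC (by omega)).2.2 h).elim
    | exact ((big cD (by omega)).1 h).elim
    | exact ((big cD (by omega)).2.1 h).elim
    | exact ((big cD (by omega)).2.2 h).elim
    | exact ((big cE (by omega)).1 h).elim
    | exact ((big cE (by omega)).2.1 h).elim
    | exact ((big cE (by omega)).2.2 h).elim
    | (have := Nat.le_of_dvd (by omega) h; omega)
    | skip
  · -- p (q - 1) ∣ p (q + 1)
    have h' := Nat.dvd_sub (Nat.dvd_of_mul_dvd_mul_left hpp h) (dvd_refl (q - 1))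
    have := Nat.le_of_dvd (by omega) h'
    omega
  · rw [pow_two] at h
    have h' := Nat.dvd_of_mul_dvd_mul_left hpp h
    rcases (Nat.dvd_prime hp).1 h' with e | e
    · omega
    · exact absurd (dvd_of_eq e.symm) c1
  · have := Nat.le_of_dvd (by omega) (Nat.dvd_of_mul_dvd_mul_left hpp h)
    omega
  · rw [pow_two] at h
    have := Nat.le_of_dvd (by omega) (Nat.dvd_of_mul_dvd_mul_left hpp h)
    omega
  · have h' := Nat.dvd_sub h (dvd_refl (q ^ 2 - 1))
    have := Nat.le_of_dvd (by omega) h'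
    omega
  · have h' := Nat.dvd_sub (dvd_refl (q ^ 2 - q + 1)) h
    have h'' : q ^ 2 - q + 1 ∣ (q ^ 2 - 1) - (q ^ 2 - q + 1) := Nat.dvd_sub h (dvd_refl _)
    have := Nat.le_of_dvd (by omega) h''
    omega
  · have h'' : q ^ 2 - q + 1 ∣ (q ^ 2 + q + 1) - (q ^ 2 - q + 1) := Nat.dvd_sub h (dvd_refl _)
    have := Nat.le_of_dvd (by omega) h''
    omega
  · rw [pow_two] at h
    exact absurd (Nat.dvd_of_mul_dvd_mul_left hpp h) c1
  · rw [pow_two] at h
    exact absurd (Nat.dvd_of_mul_dvd_mul_left hpp h) c2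

end Cfsg.Agent.Lie.G2Orders
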